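import Cfsg.Agent.Lib.Linear.FrameSeven.Unipotent

/-!
# The rotation groups of a vector of the class and two frame vectors

For `x` in the class and `i ≠ j`, the space of `e i`, `e j` and `x` carries two subgroups generated
by products of two reflections of the class.  Either every vector of norm `ν` of that space is in
the class, or the orders of their elements bound the values of `x`.
-/

set_option autoImplicit false

namespace Cfsg.Lib.Linear.FrameSeven

open Module Cfsg.Lib.Linear.Orth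
open scoped Matrix

variable {ι : Type} [Fintype ι] [DecidableEq ι] {F : Type*} [Field F]
  {Q : (ι → F) → F} {B : LinearMap.BilinForm F (ι → F)}
  {n : ℕ} {e : Fin n → (ι → F)} {ν : F} {H : Subgroup (GL ι F)}

/-- `x` without its coordinates at `i` and `j`. -/
noncomputable def rest (B : LinearMap.BilinForm F (ι → F)) (e : Fin n → (ι → F)) (ν : F)
    (i j : Fin n) (x : ι → F) : ι → F := x - co B e ν i x • e i - co B e ν j x • e j

/-- The triple of `e i`, `e j` and the rest of `x`. -/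
noncomputable def tvec (B : LinearMap.BilinForm F (ι → F)) (e : Fin n → (ι → F)) (ν : F)
    (i j : Fin n) (x : ι → F) : Fin 3 → (ι → F) := ![e i, e j, rest B e ν i j x]

/-- All vectors of norm `ν` in the space of the triple are in the class. -/
def Full (Q : (ι → F) → F) (B : LinearMap.BilinForm F (ι → F)) (e : Fin n → (ι → F)) (ν : F)
    (H : Subgroup (GL ι F)) (i j : Fin n) (x : ι → F) : Prop :=
  ∀ y ∈ tspan (tvec B e ν i j x), Q y = ν → Cls Q e ν H y

theorem tvec_mem (i j : Fin n) (x : ι → F) :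
    e i ∈ tspan (tvec B e ν i j x) ∧ e j ∈ tspan (tvec B e ν i j x) ∧
      rest B e ν i j x ∈ tspan (tvec B e ν i j x) ∧ x ∈ tspan (tvec B e ν i j x) := by
  have h0 : e i ∈ tspan (tvec B e ν i j x) := Submodule.subset_span ⟨0, rfl⟩
  have h1 : e j ∈ tspan (tvec B e ν i j x) := Submodule.subset_span ⟨1, rfl⟩
  have h2 : rest B e ν i j x ∈ tspan (tvec B e ν i j x) := Submodule.subset_span ⟨2, rfl⟩
  refine ⟨h0, h1, h2, ?_⟩
  have h := Submodule.add_mem _ (Submodule.add_mem _ h2 (Submodule.smul_mem _ (co B e ν j x) h1))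
    (Submodule.smul_mem _ (co B e ν i x) h0)
  convert h using 1
  rw [rest]; abel

theorem tspan_cases {i j : Fin n} {x y : ι → F} (hy : y ∈ tspan (tvec B e ν i j x)) :
    ∃ α β γ : F, y = α • e i + β • e j + γ • rest B e ν i j x := by
  obtain ⟨c, rfl⟩ := (Submodule.mem_span_range_iff_exists_fun F).mp hy
  exact ⟨c 0, c 1, c 2, by rw [Fin.sum_univ_three]; rfl⟩

theorem tspan_mem {i j : Fin n} {x : ι → F} (α β γ : F) :
    α • e i + β • e j + γ • rest B e ν i j x ∈ tspan (tvec B e ν i j x) := by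
  obtain ⟨h0, h1, h2, -⟩ := tvec_mem (B := B) (e := e) (ν := ν) i j x
  exact Submodule.add_mem _ (Submodule.add_mem _ (Submodule.smul_mem _ _ h0)
    (Submodule.smul_mem _ _ h1)) (Submodule.smul_mem _ _ h2)

section Frame

variable (X : Frame Q B e ν) {i j : Fin n} (hij : i ≠ j) {x : ι → F}

include X hij

theorem Frame.co_rest (l : Fin n) :
    co B e ν l (rest B e ν i j x) = if l = i ∨ l = j then 0 else co B e ν l x := by
  rw [rest, co_sub, co_sub, co_smul, co_smul, X.co_e, X.co_e]
  by_cases h1 : l = i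
  · subst h1; rw [if_pos (Or.inl rfl), if_pos rfl, if_neg hij]; ring
  by_cases h2 : l = j
  · subst h2; rw [if_pos (Or.inr rfl), if_neg h1, if_pos rfl]; ring
  rw [if_neg (show ¬(l = i ∨ l = j) by tauto), if_neg h1, if_neg h2]; ring

theorem Frame.co_comb (α β γ : F) (l : Fin n) :
    co B e ν l (α • e i + β • e j + γ • rest B e ν i j x) =
      if l = i then α else if l = j then β else γ * co B e ν l x := by
  rw [co_add, co_add, co_smul, co_smul, co_smul, X.co_e, X.co_e, X.co_rest hij]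
  by_cases h1 : l = i
  · subst h1; rw [if_pos rfl, if_neg hij, if_pos (Or.inl rfl), if_pos rfl]; ring
  by_cases h2 : l = j
  · subst h2; rw [if_neg h1, if_pos rfl, if_pos (Or.inr rfl), if_neg h1, if_pos rfl]; ring
  rw [if_neg h1, if_neg h2, if_neg (by tauto), if_neg h1, if_neg h2]; ring

theorem Frame.Q_rest (hx : Q x = ν) :
    4 * Q (rest B e ν i j x) = ν * (4 - (val B e ν i x + val B e ν j x)) := by
  have C := X.space
  rw [rest, sub_eq_add_neg, sub_eq_add_neg, ← neg_smul, ← neg_smul, C.add, C.add, C.smul, C.smul,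
    hx, X.norm, X.norm]
  simp only [map_add, map_smul, LinearMap.add_apply, LinearMap.smul_apply, smul_eq_mul,
    C.symm x (e i), C.symm x (e j), X.B_e, X.co_e, if_neg hij, val]
  ring

theorem Frame.Q_rest_ne (hx : Q x = ν) (hD : val B e ν i x + val B e ν j x ≠ 4) :
    Q (rest B e ν i j x) ≠ 0 := fun h => hD (by
  have h' := X.Q_rest hij hx
  rw [h, mul_zero, eq_comm, mul_eq_zero] at h'
  exact (sub_eq_zero.mp (h'.resolve_left X.nu)).symm)

theorem Frame.B_rest (l : Fin n) (hl : l = i ∨ l = j) : B (e l) (rest B e ν i j x) = 0 := by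
  rw [X.B_e, X.co_rest hij, if_pos hl, mul_zero]

theorem Frame.tri (hx : Q x = ν) (hD : val B e ν i x + val B e ν j x ≠ 4) :
    Tri Q B (tvec B e ν i j x) where
  space := X.space
  two := X.two
  ne k := by
    fin_cases k
    exacts [X.Qne i, X.Qne j, X.Q_rest_ne hij hx hD]
  orth k l h := by
    have C := X.space
    fin_cases k <;> fin_cases l
    exacts [absurd rfl h, X.orth i j hij, X.B_rest hij i (Or.inl rfl), X.orth j i hij.symm,
      absurd rfl h, X.B_rest hij j (Or.inr rfl),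
      (C.symm _ _).trans (X.B_rest hij i (Or.inl rfl)),
      (C.symm _ _).trans (X.B_rest hij j (Or.inr rfl)), absurd rfl h]

theorem Frame.exists_rest (hx : Q x = ν) (hD : val B e ν i x + val B e ν j x ≠ 4) :
    ∃ k, k ≠ i ∧ k ≠ j ∧ co B e ν k x ≠ 0 := by
  by_contra h
  push Not at h
  refine X.Q_rest_ne hij hx hD ?_
  rw [X.eq_zero (x := rest B e ν i j x) fun l => ?_, X.space.zero]
  rw [X.co_rest hij]
  split_ifs with hl
  · rfl
  · exact h l (fun e => hl (Or.inl e)) (fun e => hl (Or.inr e))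

omit hij in
/-- The orders of the product of two reflections. -/
theorem Frame.vals_of_pow (hx : Q x = ν) {k : Fin n} (hki : k ≠ i) (hk : co B e ν k x ≠ 0)
    (ha : co B e ν i x ≠ 0) :
    ((rGL Q x * rGL Q (e i)) ^ 3 = 1 → val B e ν i x = 1) ∧
      ((rGL Q x * rGL Q (e i)) ^ 4 = 1 → val B e ν i x = 2) ∧
      ((rGL Q x * rGL Q (e i)) ^ 5 = 1 →
        val B e ν i x ^ 2 - 3 * val B e ν i x + 1 = 0) := by
  have C := X.space
  have hQx : Q x ≠ 0 := hx ▸ X.nu
  set a := co B e ν i x with ha'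
  set c := co B e ν k x with hc'
  set M := rGL Q x * rGL Q (e i) with hM
  have hMinv : M⁻¹ = rGL Q (e i) * rGL Q x := by
    rw [hM, mul_inv_rev, rGL_inv C (X.Qne i), rGL_inv C hQx]
  have rxe : (rGL Q x).val *ᵥ e i = e i - (2 * a) • x := by
    rw [rGL_act C hQx, C.symm, X.B_e, ← ha', hx]
    have := X.nu
    match_scalars <;> field_simp
  have rxx : (rGL Q x).val *ᵥ x = -x := rGL_self C hQx
  have ree : (rGL Q (e i)).val *ᵥ e i = -e i := rGL_self C (X.Qne i)
  have rex : (rGL Q (e i)).val *ᵥ x = x - (2 * a) • e i := by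
    rw [rGL_act C (X.Qne i), X.B_e, ← ha', X.norm]
    have := X.nu
    match_scalars <;> field_simp
  have act : ∀ u v : F, M.val *ᵥ (u • e i + v • x)
      = (-u - 2 * a * v) • e i + (2 * a * u + (4 * a ^ 2 - 1) * v) • x := by
    intro u v
    simp only [hM, mul_act, Matrix.mulVec_add, Matrix.mulVec_smul, Matrix.mulVec_sub, ree, rex,
      Matrix.mulVec_neg, rxe, rxx]
    module
  have act' : ∀ u v : F, (M⁻¹ : GL ι F).val *ᵥ (u • e i + v • x)
      = ((4 * a ^ 2 - 1) * u + 2 * a * v) • e i + (-(2 * a) * u - v) • x := by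
    intro u v
    simp only [hMinv, mul_act, Matrix.mulVec_add, Matrix.mulVec_smul, Matrix.mulVec_sub, ree, rex,
      Matrix.mulVec_neg, rxe, rxx]
    module
  have cok : ∀ u v : F, co B e ν k (u • e i + v • x) = v * c := by
    intro u v
    rw [co_add, co_smul, co_smul, X.co_e, if_neg hki, hc']
    ring
  have he : e i = (1 : F) • e i + (0 : F) • x := by simp
  have hM1 := act 1 0
  rw [← he] at hM1
  have hN1 := act' 1 0
  rw [← he] at hN1
  have hM2 : (M * M).val *ᵥ e i = (1 - 4 * a ^ 2) • e i + (8 * a ^ 3 - 4 * a) • x := by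
    rw [mul_act, hM1, act]; module
  have hN2 : (M⁻¹ * M⁻¹).val *ᵥ e i =
      ((4 * a ^ 2 - 1) ^ 2 - 4 * a ^ 2) • e i + (4 * a - 8 * a ^ 3) • x := by
    rw [mul_act, hN1, act']; module
  have hM3 : (M * (M * M)).val *ᵥ e i = (-(1 - 4 * a ^ 2) - 2 * a * (8 * a ^ 3 - 4 * a)) • e i +
      (2 * a * (1 - 4 * a ^ 2) + (4 * a ^ 2 - 1) * (8 * a ^ 3 - 4 * a)) • x := by
    rw [mul_act, hM2, act]
  have h4 := X.four
  refine ⟨fun h => ?_, fun h => ?_, fun h => ?_⟩
  · have e2 : M * M = M⁻¹ := eq_inv_of_mul_eq_one_left (by rw [← h]; simp [pow_succ, mul_assoc])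
    have h' := hM2
    rw [e2, hN1] at h'
    have h'' := congrArg (co B e ν k) h'
    rw [cok, cok] at h''
    have := mul_right_cancel₀ hk h''
    refine mul_left_cancel₀ (mul_ne_zero X.two ha) ?_
    rw [val, ← ha']
    linear_combination -this
  · have e2 : M * M = M⁻¹ * M⁻¹ := by
      rw [← mul_inv_rev]
      exact eq_inv_of_mul_eq_one_left (by rw [← h]; simp [pow_succ, mul_assoc])
    have h' := hM2
    rw [e2, hN2] at h'
    have h'' := congrArg (co B e ν k) h'
    rw [cok, cok] at h''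
    have := mul_right_cancel₀ hk h''
    refine mul_left_cancel₀ (mul_ne_zero h4 ha) ?_
    rw [val, ← ha']
    linear_combination -this
  · have e2 : M * (M * M) = M⁻¹ * M⁻¹ := by
      rw [← mul_inv_rev]
      exact eq_inv_of_mul_eq_one_left (by rw [← h]; simp [pow_succ, mul_assoc])
    have h' := hM3
    rw [e2, hN2] at h'
    have h'' := congrArg (co B e ν k) h'
    rw [cok, cok] at h''
    have := mul_right_cancel₀ hk h''
    refine mul_left_cancel₀ (mul_ne_zero X.two ha) ?_
    rw [val, ← ha', mul_zero]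
    linear_combination -this

/-- The product of two reflections moves the axis of the plane. -/
theorem Frame.axis_moved (hx : Q x = ν) (hD : val B e ν i x + val B e ν j x ≠ 4)
    (ha : co B e ν i x ≠ 0) {γ : F} (hγ : γ ≠ 0) :
    (rGL Q x * rGL Q (e i)).val *ᵥ (γ • rest B e ν i j x) ∉
      Submodule.span F {γ • rest B e ν i j x} := by
  intro h
  have C := X.space
  obtain ⟨μ, hμ⟩ := Submodule.mem_span_singleton.mp h
  have hBx : B x (rest B e ν i j x) = 2 * Q (rest B e ν i j x) := by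
    have e1 : x = rest B e ν i j x + co B e ν i x • e i + co B e ν j x • e j := by
      rw [rest]; abel
    conv_lhs => arg 1; rw [e1]
    simp [C.self, X.B_rest hij i (Or.inl rfl), X.B_rest hij j (Or.inr rfl)]
  rw [mul_act, rGL_fix C (X.Qne i) (by rw [map_smul, X.B_rest hij i (Or.inl rfl), smul_zero]),
    rGL_act C (hx ▸ X.nu), map_smul, hBx, smul_eq_mul, hx] at hμ
  have h' := congrArg (co B e ν i) hμ
  rw [co_smul, co_smul, co_sub, co_smul, co_smul, X.co_rest hij, if_pos (Or.inl rfl)] at h'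
  refine mul_ne_zero (mul_ne_zero (inv_ne_zero X.nu) (mul_ne_zero hγ (mul_ne_zero X.two
    (X.Q_rest_ne hij hx hD)))) ha ?_
  linear_combination h'

end Frame

theorem Tri.rot_closure {b : Fin 3 → (ι → F)} (D : Tri Q B b) {s : Set (GL ι F)}
    (h : ∀ g ∈ s, IsRot Q B b g) : ∀ g ∈ Subgroup.closure s, IsRot Q B b g := fun g hg => by
  induction hg using Subgroup.closure_induction with
  | mem g hg => exact h g hg
  | one => exact D.rot_one
  | mul a c _ _ ha hc => exact ha.mul D hc
  | inv a _ ha => exact ha.inv D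

section Ctx

variable [Finite F] (T : Ctx Q B e ν H) (hΩ : ¬ Cfsg.Geo.omegaGL Q ≤ H)
  (p : ℕ) [Fact p.Prime] [CharP F p] (hp : 11 ≤ p)

omit [Fintype ι] [DecidableEq ι] in
theorem card_ge_char : p ≤ Nat.card F := by
  have := Nat.card_le_card_of_injective (ZMod.castHom (dvd_refl p) F)
    (RingHom.injective _)
  rwa [Nat.card_zmod] at this

include T hΩ hp

/-- An element of order `p` makes the triple full. -/
theorem Ctx.full_of_pelt {x : ι → F} (hx : Cls Q e ν H x) {i j : Fin n} (hij : i ≠ j)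
    (hD : val B e ν i x + val B e ν j x ≠ 4) {g : GL ι F}
    (hg : IsRot Q B (tvec B e ν i j x) g) (hgH : g ∈ H) (hg1 : g ≠ 1) (hgp : g ^ p = 1) :
    Full Q B e ν H i j x := by
  classical
  have X := T.frame
  have C := X.space
  have D := X.tri hij hx.1 hD
  obtain ⟨k, hki, hkj, hk⟩ := X.exists_rest hij hx.1 hD
  obtain ⟨w, a, hw, ha, hw0, hQw, hwa, haw, rfl⟩ := hg.of_pow_char D p hgp hg1
  obtain ⟨α, β, γ, hwe⟩ := tspan_cases hw
  obtain ⟨α', β', γ', hae⟩ := tspan_cases ha
  have hBr : ∀ l, l = i ∨ l = j → B (rest B e ν i j x) (e l) = 0 := fun l hl =>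
    (C.symm _ _).trans (X.B_rest hij l hl)
  have hQ : ν * (α ^ 2 + β ^ 2) + γ ^ 2 * Q (rest B e ν i j x) = 0 := by
    rw [hwe, C.add, C.smul_add, C.smul, X.norm, X.norm, X.orth i j hij] at hQw
    simp only [map_add, map_smul, LinearMap.add_apply, LinearMap.smul_apply, smul_eq_mul,
      X.B_rest hij i (Or.inl rfl), X.B_rest hij j (Or.inr rfl)] at hQw
    linear_combination hQw
  have hγ : γ ≠ 0 := by
    intro hγ
    refine hΩ (T.omega_of_root hw0 hQw hwa hgH (k := k) ?_ ?_ ?_)
    · have hs : supp B e ν w ⊆ {i, j} := fun l hl => by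
        rw [mem_supp, hwe, X.co_comb hij, hγ] at hl
        simp only [Finset.mem_insert, Finset.mem_singleton]
        by_contra h
        rw [if_neg (fun e => h (Or.inl e)), if_neg (fun e => h (Or.inr e)), zero_mul] at hl
        exact hl rfl
      have := (Finset.card_le_card hs).trans Finset.card_le_two
      have := X.big
      omega
    · rw [not_mem_supp, hwe, X.co_comb hij, if_neg hki, if_neg hkj, hγ, zero_mul]
    · rw [hae, X.co_comb hij, if_neg hki, if_neg hkj]
      refine mul_ne_zero (fun hγ' => haw ?_) hk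
      rw [hγ, zero_smul, add_zero] at hwe
      rw [hγ'] at hae
      rw [zero_smul, add_zero] at hae
      have h1 : α * α' + β * β' = 0 := by
        rw [hwe, hae] at hwa
        simp only [map_add, map_smul, LinearMap.add_apply, LinearMap.smul_apply, smul_eq_mul,
          X.self, X.orth i j hij, X.orth j i hij.symm] at hwa
        refine mul_left_cancel₀ X.two_nu ?_
        linear_combination hwa
      have h2 : α ^ 2 + β ^ 2 = 0 := by
        refine mul_left_cancel₀ X.nu ?_
        rw [hγ] at hQ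
        linear_combination hQ
      have hα : α ≠ 0 := fun h => hw0 (by
        rw [h] at h2
        rw [hwe, h, pow_eq_zero_iff two_ne_zero |>.mp (by linear_combination h2 : β ^ 2 = 0)]
        simp)
      refine Submodule.mem_span_singleton.mpr ⟨α' / α, ?_⟩
      have hβ : β ≠ 0 := fun h => hα (by
        rw [h] at h2
        exact pow_eq_zero_iff two_ne_zero |>.mp (by linear_combination h2))
      have h3 : α * β' = α' * β := mul_left_cancel₀ hα (by linear_combination β' * h2 - β * h1)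
      rw [hwe, hae]
      match_scalars
      · field_simp
      · field_simp
        linear_combination -h3
  set r := rGL Q (e i) * rGL Q (e j) with hr
  have hrI : r ∈ isometryGroup F Q := mul_mem (rGL_mem C (X.Qne i)) (rGL_mem C (X.Qne j))
  have hrU : ∀ y ∈ tspan (tvec B e ν i j x), r.val *ᵥ y ∈ tspan (tvec B e ν i j x) := fun y hy =>
    (D.rr_rot (tvec_mem i j x).1 (tvec_mem i j x).2.1 (X.Qne i) (X.Qne j)).mem D hy
  have hrw : r.val *ᵥ w = (-α) • e i + (-β) • e j + γ • rest B e ν i j x := by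
    refine X.ext fun l => ?_
    rw [hr, mul_act, X.co_refl, X.co_refl, hwe, X.co_comb hij, X.co_comb hij]
    split_ifs <;> simp_all
  have hne : B w (r.val *ᵥ w) ≠ 0 := by
    rw [hrw, hwe]
    simp only [map_add, map_smul, LinearMap.add_apply, LinearMap.smul_apply, smul_eq_mul,
      X.self, C.self (rest B e ν i j x), X.orth i j hij, X.orth j i hij.symm,
      X.B_rest hij i (Or.inl rfl), X.B_rest hij j (Or.inr rfl), hBr i (Or.inl rfl),
      hBr j (Or.inr rfl)]
    intro h
    exact mul_ne_zero (mul_ne_zero X.four (pow_ne_zero 2 hγ)) (X.Q_rest_ne hij hx.1 hD)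
      (by linear_combination h + 2 * hQ)
  have hroot : Root Q B (tspan (tvec B e ν i j x)) ≤ H := by
    refine Tri.root_le C T.prime D hw ha hQw hwa haw hgH (hrU w hw) (hrU a ha)
      (by rw [mem_iso.mp hrI, hQw]) (by rw [C.B_act hrI, hwa]) (fun hsp => haw ?_)
      (by rw [← sGL_conj C hQw hwa hrI]
          exact mul_mem (mul_mem (T.rr_frame i j) hgH) (inv_mem (T.rr_frame i j))) hne
    obtain ⟨c, hc⟩ := Submodule.mem_span_singleton.mp hsp
    refine Submodule.mem_span_singleton.mpr ⟨c, act_injective r ?_⟩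
    simp only [Matrix.mulVec_smul, hc]
  have h11 : (11 : ℕ) ≤ Nat.card F := hp.trans (card_ge_char p)
  have h3 : (3 : F) ≠ 0 := fun h => by
    have := Nat.le_of_dvd (by norm_num) ((CharP.cast_eq_zero_iff F p 3).mp (by exact_mod_cast h))
    omega
  intro y hy hQy
  obtain ⟨h, hh, hhy⟩ := D.trans (by omega) h3 (tvec_mem i j x).1 hy (X.Qne i)
    (by rw [hQy, X.norm])
  refine T.cls_of_one hQy (i := i) ?_
  have hI := root_le_iso C _ hh
  rw [← hhy, ← rGL_conj C (X.Qne i) hI, mul_assoc, mul_assoc]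
  refine mul_mem (hroot hh) (hroot ?_)
  have h' := root_conj_of_mapsTo C (rGL_mem C (X.Qne i)) (fun z hz => by
    rw [rGL_act C (X.Qne i)]
    exact Submodule.sub_mem _ hz (Submodule.smul_mem _ _ (tvec_mem i j x).1)) (inv_mem hh)
  rw [rGL_inv C (X.Qne i), mul_assoc] at h'
  exact h'

/-- Elements of order `p` in a rotation group, or bounded orders. -/
theorem Ctx.orders_or_full {x : ι → F} (hx : Cls Q e ν H x) {i j : Fin n} (hij : i ≠ j)
    (hD : val B e ν i x + val B e ν j x ≠ 4) {G : Subgroup (GL ι F)}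
    (hG : ∀ g ∈ G, IsRot Q B (tvec B e ν i j x) g) (hGH : ∀ g ∈ G, g ^ 2 ∈ H)
    (hline : ∀ v ∈ tspan (tvec B e ν i j x), Q v ≠ 0 →
      ∃ g ∈ G, g.val *ᵥ v ∉ Submodule.span F {v}) :
    Full Q B e ν H i j x ∨ ((∀ a ∈ G, a ^ 3 = 1 ∨ a ^ 4 = 1 ∨ a ^ 5 = 1) ∧
      ((∃ c ∈ G, c ^ 4 = 1 ∧ c ^ 2 ≠ 1) → ∀ a ∈ G, a ^ 3 = 1 ∨ a ^ 4 = 1)) := by
  by_cases h : ∀ g ∈ G, (orderOf g : F) ≠ 0
  · exact Or.inr ((T.frame.tri hij hx.1 hD).orders hG h hline)
  push Not at h
  obtain ⟨g, hg, hgo⟩ := h
  have hdvd : p ∣ orderOf g := (CharP.cast_eq_zero_iff F p _).mp hgo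
  set g' := g ^ (orderOf g / p) with hg'
  have ho : orderOf g' = p := orderOf_pow_orderOf_div (orderOf_pos g).ne' hdvd
  have hgp : g' ^ p = 1 := ho ▸ pow_orderOf_eq_one g'
  refine Or.inl (T.full_of_pelt hΩ p hp hx hij hD (hG _ (pow_mem hg _)) ?_ (fun h1 => ?_) hgp)
  · obtain ⟨m, hm⟩ := ((Fact.out : p.Prime).odd_of_ne_two (by omega)).add_one
    have : g' = (g' ^ 2) ^ m := by rw [← pow_mul, two_mul, ← hm, pow_succ, hgp, one_mul]
    show g' ∈ H
    rw [this]
    exact pow_mem (hGH _ (pow_mem hg _)) _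
  · rw [show g' = 1 from h1, orderOf_one] at ho
    omega

/-- With both coordinates non-zero. -/
theorem Ctx.gamma_one {x : ι → F} (hx : Cls Q e ν H x) {i j : Fin n} (hij : i ≠ j)
    (hD : val B e ν i x + val B e ν j x ≠ 4) (ha : co B e ν i x ≠ 0) (hb : co B e ν j x ≠ 0) :
    Full Q B e ν H i j x ∨ val B e ν i x = 1 ∨ val B e ν i x = 2 ∨
      val B e ν i x ^ 2 - 3 * val B e ν i x + 1 = 0 := by
  have X := T.frame
  have C := X.space
  have D := X.tri hij hx.1 hD
  have hQx : Q x ≠ 0 := hx.1 ▸ X.nu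
  obtain ⟨k, hki, hkj, hk⟩ := X.exists_rest hij hx.1 hD
  obtain ⟨hi, hj, -, hxU⟩ := tvec_mem (B := B) (e := e) (ν := ν) i j x
  set M := rGL Q x * rGL Q (e i) with hM
  set R := rGL Q (e i) * rGL Q (e j) with hR
  have hG := D.rot_closure (s := {M, R}) (by
    rintro g (rfl | rfl)
    exacts [D.rr_rot hxU hi hQx (X.Qne i), D.rr_rot hi hj (X.Qne i) (X.Qne j)])
  have hGH : Subgroup.closure {M, R} ≤ H := (Subgroup.closure_le _).mpr (by
    rintro g (rfl | rfl)
    exacts [hx.2 i, T.rr_frame i j])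
  refine Or.elim (T.orders_or_full hΩ p hp hx hij hD hG (fun g hg => pow_mem (hGH hg) 2) ?line)
    Or.inl ?main
  case main =>
    intro h
    have hv := X.vals_of_pow hx.1 hki hk ha
    rcases h.1 M (Subgroup.subset_closure (Or.inl rfl)) with h3 | h4 | h5
    exacts [Or.inr (Or.inl (hv.1 h3)), Or.inr (Or.inr (Or.inl (hv.2.1 h4))),
      Or.inr (Or.inr (Or.inr (hv.2.2 h5)))]
  intro v hv hQv
  by_contra hc
  push Not at hc
  obtain ⟨μ, hμ⟩ := Submodule.mem_span_singleton.mp
    (hc R (Subgroup.subset_closure (Or.inr rfl)))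
  obtain ⟨μ', hμ'⟩ := Submodule.mem_span_singleton.mp
    (hc M (Subgroup.subset_closure (Or.inl rfl)))
  obtain ⟨α, β, γ, rfl⟩ := tspan_cases hv
  have hRc := fun l => congrArg (co B e ν l) hμ
  simp only [hR, mul_act, X.co_refl, co_smul, X.co_comb hij] at hRc
  have hi' := hRc i
  have hj' := hRc j
  have hk' := hRc k
  simp only [if_true, if_neg hij, if_neg hij.symm, if_neg hki, if_neg hkj] at hi' hj' hk'
  by_cases hγ : γ = 0
  · have hrv : (rGL Q (e i)).val *ᵥ (α • e i + β • e j + γ • rest B e ν i j x) =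
        (-α) • e i + β • e j + γ • rest B e ν i j x := by
      refine X.ext fun l => ?_
      rw [X.co_refl, X.co_comb hij, X.co_comb hij]
      split_ifs <;> rfl
    have ht : (Q x)⁻¹ * B x ((-α) • e i + β • e j + γ • rest B e ν i j x) =
        2 * (β * co B e ν j x - α * co B e ν i x) := by
      rw [hγ, hx.1]
      simp only [map_add, map_smul, map_neg, zero_smul, map_zero, smul_eq_mul, C.symm x (e i),
        C.symm x (e j), X.B_e]
      have := X.nu
      field_simp
      ring
    have hMc := fun l => congrArg (co B e ν l) hμ'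
    simp only [hM, mul_act, hrv, rGL_act C hQx, ht, co_sub, co_smul, X.co_comb hij] at hMc
    have mk := hMc k
    have mi := hMc i
    have mj := hMc j
    simp only [if_true, if_neg hij.symm, if_neg hki, if_neg hkj, hγ] at mi mj mk
    have t0 : β * co B e ν j x - α * co B e ν i x = 0 := by
      refine mul_left_cancel₀ X.two (mul_right_cancel₀ hk ?_)
      linear_combination mk
    rw [t0] at mi mj
    rcases eq_or_ne α 0 with hα | hα
    · rw [hα] at t0
      have hβ : β = 0 := (mul_eq_zero.mp (by linear_combination t0)).resolve_right hb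
      exact hQv (by rw [hα, hβ, hγ]; simp [C.zero])
    · have hμ1 : μ' = -1 := mul_right_cancel₀ hα (by linear_combination mi)
      rw [hμ1] at mj
      have hβ : β = 0 := mul_left_cancel₀ X.two (by linear_combination -mj)
      rw [hβ] at t0
      exact mul_ne_zero hα ha (by linear_combination -t0)
  · have hμ1 : μ = 1 := mul_right_cancel₀ (mul_ne_zero hγ hk) (by linear_combination hk')
    rw [hμ1] at hi' hj'
    have hα : α = 0 := mul_left_cancel₀ X.two (by linear_combination hi')
    have hβ : β = 0 := mul_left_cancel₀ X.two (by linear_combination hj')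
    exact X.axis_moved hij hx.1 hD ha hγ (Submodule.mem_span_singleton.mpr ⟨μ', by
      simpa [hM, hα, hβ] using hμ'⟩)

/-- With an equal pair of coordinates elsewhere. -/
theorem Ctx.gamma_four {x : ι → F} (hx : Cls Q e ν H x) {i j k l : Fin n} (hij : i ≠ j)
    (hkl : k ≠ l) (hik : i ≠ k) (hil : i ≠ l) (hjk : j ≠ k) (hjl : j ≠ l)
    (heq : val B e ν k x = val B e ν l x)
    (hD : val B e ν i x + val B e ν j x ≠ 4) (ha : co B e ν i x ≠ 0) :
    Full Q B e ν H i j x ∨ val B e ν i x = 1 ∨ val B e ν i x = 2 := by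
  classical
  have X := T.frame
  have C := X.space
  have D := X.tri hij hx.1 hD
  have hQx : Q x ≠ 0 := hx.1 ▸ X.nu
  obtain ⟨m, hmi, hmj, hm⟩ := X.exists_rest hij hx.1 hD
  obtain ⟨hi, hj, -, hxU⟩ := tvec_mem (B := B) (e := e) (ν := ν) i j x
  have h1 : ((-1 : F)) ^ 2 = 1 := by norm_num
  -- the pair with equal squares
  obtain ⟨σ, hσ, hckl⟩ : ∃ σ : F, σ ^ 2 = 1 ∧ co B e ν k x = -σ * co B e ν l x := by
    have h := mul_left_cancel₀ X.four (show 4 * co B e ν k x ^ 2 = 4 * co B e ν l x ^ 2 from heq)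
    rcases sq_eq_sq_iff_eq_or_eq_neg.mp h with h | h
    · exact ⟨-1, h1, by rw [h]; ring⟩
    · exact ⟨1, one_pow 2, by rw [h]; ring⟩
  set u := e i + (-1 : F) • e j with hu
  have huU : u ∈ tspan (tvec B e ν i j x) := Submodule.add_mem _ hi (Submodule.smul_mem _ _ hj)
  have hQu : Q u ≠ 0 := X.root_ne hij _ h1
  set g4 := rGL Q (e i) * rGL Q u with hg4
  have hg4I : g4 ∈ isometryGroup F Q := mul_mem (rGL_mem C (X.Qne i)) (rGL_mem C hQu)
  let S : Set (ι → F) := {y | y ∈ tspan (tvec B e ν i j x) ∧ Cls Q e ν H y}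
  have hS : ∀ {y}, y ∈ S → Q y ≠ 0 := fun hy => hy.2.1 ▸ X.nu
  have hflip : ∀ y ∈ S, (rGL Q (e i)).val *ᵥ y ∈ S := fun y hy => ⟨by
    rw [rGL_act C (X.Qne i)]
    exact Submodule.sub_mem _ hy.1 (Submodule.smul_mem _ _ hi), hy.2.flip T i⟩
  have hswap : ∀ y ∈ S, (rGL Q u).val *ᵥ y ∈ S := by
    intro y hy
    obtain ⟨α, β, γ, rfl⟩ := tspan_cases hy.1
    have hfix : (rGL Q (e k + σ • e l)).val *ᵥ (α • e i + β • e j + γ • rest B e ν i j x)
        = α • e i + β • e j + γ • rest B e ν i j x := by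
      refine X.ext fun q => ?_
      rw [X.co_root hkl σ hσ]
      split_ifs with q1 q2
      · subst q1
        rw [X.co_comb hij, X.co_comb hij, if_neg hil.symm, if_neg hjl.symm, if_neg hik.symm,
          if_neg hjk.symm, hckl]
        ring
      · subst q2
        rw [X.co_comb hij, X.co_comb hij, if_neg hil.symm, if_neg hjl.symm, if_neg hik.symm,
          if_neg hjk.symm, hckl]
        linear_combination (γ * co B e ν q x) * hσ
      · rfl
    obtain ⟨o, ho1, ho2, ho3, ho4⟩ : ∃ o, o ≠ i ∧ o ≠ j ∧ o ≠ k ∧ o ≠ l := by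
      obtain ⟨o, -, ho⟩ := Finset.exists_mem_notMem_of_card_lt_card
        (show ({i, j, k, l} : Finset (Fin n)).card < (Finset.univ : Finset (Fin n)).card by
          rw [Finset.card_univ, Fintype.card_fin]
          have := Finset.card_le_four (a := i) (b := j) (c := k) (d := l)
          have := X.big
          omega)
      simp only [Finset.mem_insert, Finset.mem_singleton, not_or] at ho
      exact ⟨o, ho⟩
    have ho : (rGL Q u * rGL Q (e k + σ • e l)).val *ᵥ e o = e o := by
      refine X.ext fun q => ?_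
      rw [mul_act, X.co_root hij _ h1, X.co_root hkl σ hσ, X.co_root hkl σ hσ,
        X.co_root hkl σ hσ]
      simp only [X.co_e]
      split_ifs <;> simp_all
    have h := hy.2.act T (g := rGL Q u * rGL Q (e k + σ • e l)) (T.rr_root hij hkl h1 hσ) (i := o)
      (by rw [ho]; exact T.cls_e o)
    rw [mul_act, hfix] at h
    exact ⟨by
      rw [rGL_act C hQu]
      exact Submodule.sub_mem _ hy.1 (Submodule.smul_mem _ _ huU), h⟩
  let s : Set (GL ι F) := {g | ∃ y ∈ S, ∃ z ∈ S, g = rGL Q y * rGL Q z}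
  set N := Subgroup.closure s with hN
  have hNH : N ≤ H := (Subgroup.closure_le _).mpr (by
    rintro g ⟨y, hy, z, hz, rfl⟩
    exact hy.2.pair T hz.2)
  have hxS : x ∈ S := ⟨hxU, hx⟩
  have hiS : e i ∈ S := ⟨hi, T.cls_e i⟩
  have hjS : e j ∈ S := ⟨hj, T.cls_e j⟩
  have hn1 : ∀ g ∈ N, g4 * g * g4⁻¹ ∈ N := fun g hg => by
    induction hg using Subgroup.closure_induction with
    | mem g hg =>
      obtain ⟨y, hy, z, hz, rfl⟩ := hg
      rw [show g4 * (rGL Q y * rGL Q z) * g4⁻¹
        = g4 * rGL Q y * g4⁻¹ * (g4 * rGL Q z * g4⁻¹) by group,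
        rGL_conj C (hS hy) hg4I, rGL_conj C (hS hz) hg4I, hg4, mul_act, mul_act]
      exact Subgroup.subset_closure ⟨_, hflip _ (hswap y hy), _, hflip _ (hswap z hz), rfl⟩
    | one => simp
    | mul a c _ _ ha hc =>
      rw [show g4 * (a * c) * g4⁻¹ = (g4 * a * g4⁻¹) * (g4 * c * g4⁻¹) by group]
      exact mul_mem ha hc
    | inv a _ ha =>
      rw [show g4 * a⁻¹ * g4⁻¹ = (g4 * a * g4⁻¹)⁻¹ by group]
      exact inv_mem ha
  have hnk : ∀ q : ℕ, ∀ g ∈ N, g4 ^ q * g * (g4 ^ q)⁻¹ ∈ N := by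
    intro q
    induction q with
    | zero => intro g hg; simpa using hg
    | succ q ih =>
      intro g hg
      rw [pow_succ', show g4 * g4 ^ q * g * (g4 * g4 ^ q)⁻¹
        = g4 * (g4 ^ q * g * (g4 ^ q)⁻¹) * g4⁻¹ by group]
      exact hn1 _ (ih g hg)
  have hui : (rGL Q u).val *ᵥ e i = e j := by
    refine X.ext fun q => ?_
    rw [X.co_root hij _ h1]
    simp only [X.co_e]
    split_ifs <;> simp_all
  have hg2 : g4 ^ 2 = rGL Q (e i) * rGL Q (e j) := by
    rw [sq, hg4, ← hui, ← rGL_conj C (X.Qne i) (rGL_mem C hQu), rGL_inv C hQu]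
    simp only [mul_assoc]
  have hg2N : g4 ^ 2 ∈ N := hg2 ▸ Subgroup.subset_closure ⟨_, hiS, _, hjS, rfl⟩
  have hg44 : g4 ^ 4 = 1 := by
    have hc : rGL Q (e i) * rGL Q (e j) = rGL Q (e j) * rGL Q (e i) := by
      have h := rGL_conj C (X.Qne j) (rGL_mem C (X.Qne i))
      rw [rGL_fix C (X.Qne i) (X.orth i j hij)] at h
      exact mul_inv_eq_iff_eq_mul.mp h
    rw [show 4 = 2 + 2 by rfl, pow_add, hg2, mul_assoc]
    rw [hc]
    rw [← mul_assoc (rGL Q (e j)), rGL_sq C (X.Qne j), one_mul, rGL_sq C (X.Qne i)]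
  have hgne : g4 ^ 2 ≠ 1 := fun h => by
    have h' := congrArg (fun g : GL ι F => co B e ν i (g.val *ᵥ e i)) (hg2.symm.trans h)
    simp only [mul_act, X.co_refl, X.co_e, if_true, if_neg hij, Units.val_one,
      Matrix.one_mulVec] at h'
    exact X.two (by linear_combination -h')
  set G := Subgroup.closure (insert g4 s) with hG
  have hGN : ∀ g ∈ G, ∃ a ∈ N, ∃ q : ℕ, g = a * g4 ^ q := fun g hg => by
    induction hg using Subgroup.closure_induction with
    | mem g hg =>
      rcases hg with rfl | hg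
      · exact ⟨1, one_mem _, 1, by simp⟩
      · exact ⟨g, Subgroup.subset_closure hg, 0, by simp⟩
    | one => exact ⟨1, one_mem _, 0, by simp⟩
    | mul a c _ _ ha hc =>
      obtain ⟨a', ha', q, rfl⟩ := ha
      obtain ⟨c', hc', r, rfl⟩ := hc
      exact ⟨_, mul_mem ha' (hnk q c' hc'), q + r, by rw [pow_add]; group⟩
    | inv a _ ha =>
      obtain ⟨a', ha', q, rfl⟩ := ha
      have he : (g4 ^ q)⁻¹ = g4 ^ (3 * q) := inv_eq_of_mul_eq_one_right (by
        rw [← pow_add, show q + 3 * q = 4 * q by ring, pow_mul, hg44, one_pow])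
      refine ⟨_, hnk (3 * q) _ (inv_mem ha'), 3 * q, ?_⟩
      rw [mul_inv_rev, he]
      group
  have hGH : ∀ g ∈ G, g ^ 2 ∈ H := fun g hg => by
    obtain ⟨a, ha, q, rfl⟩ := hGN g hg
    rw [sq, show a * g4 ^ q * (a * g4 ^ q) = a * (g4 ^ q * a * (g4 ^ q)⁻¹) * (g4 ^ q * g4 ^ q) by
      group, ← pow_add, ← two_mul, pow_mul]
    exact hNH (mul_mem (mul_mem ha (hnk q a ha)) (pow_mem hg2N q))
  have hGR := D.rot_closure (s := insert g4 s) (by
    rintro g (rfl | ⟨y, hy, z, hz, rfl⟩)
    exacts [D.rr_rot hi huU (X.Qne i) hQu, D.rr_rot hy.1 hz.1 (hS hy) (hS hz)])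
  set M := rGL Q x * rGL Q (e i) with hM
  have hMG : M ∈ G := Subgroup.subset_closure (Or.inr ⟨_, hxS, _, hiS, rfl⟩)
  have hg4G : g4 ∈ G := Subgroup.subset_closure (Or.inl rfl)
  refine Or.elim (T.orders_or_full hΩ p hp hx hij hD hGR hGH ?line) Or.inl ?main
  case main =>
    intro h
    have hv := X.vals_of_pow hx.1 hmi hm ha
    rcases h.2 ⟨g4, hg4G, hg44, hgne⟩ M hMG with h3 | h4
    exacts [Or.inr (Or.inl (hv.1 h3)), Or.inr (Or.inr (hv.2.1 h4))]
  intro v hv hQv
  by_contra hc
  push Not at hc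
  obtain ⟨μ, hμ⟩ := Submodule.mem_span_singleton.mp (hc g4 hg4G)
  obtain ⟨α, β, γ, rfl⟩ := tspan_cases hv
  have hgc := fun q => congrArg (co B e ν q) hμ
  simp only [hg4, hu, mul_act, X.co_refl, X.co_root hij _ h1, co_smul, X.co_comb hij] at hgc
  have hi' := hgc i
  have hj' := hgc j
  have hm' := hgc m
  simp only [if_true, if_neg hij, if_neg hij.symm, if_neg hmi, if_neg hmj, neg_neg, one_mul]
    at hi' hj' hm'
  by_cases hγ : γ = 0
  · refine hQv ?_
    rw [hγ, zero_smul, add_zero, C.smul_add, X.norm, X.norm, X.orth i j hij]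
    linear_combination (ν * β) * hi' + (-(ν * α)) * hj'
  · have hμ1 : μ = 1 := mul_right_cancel₀ (mul_ne_zero hγ hm) (by linear_combination hm')
    rw [hμ1] at hi' hj'
    have hα : α = 0 := mul_left_cancel₀ X.two (by linear_combination hi' - hj')
    have hβ : β = 0 := by linear_combination hα + hj'
    refine X.axis_moved hij hx.1 hD ha hγ ?_
    have h := hc M hMG
    rwa [hα, hβ, zero_smul, zero_smul, zero_add, zero_add] at h

end Ctx

end Cfsg.Lib.Linear.FrameSeven
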