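import Cfsg.Agent.Lib.Linear.FrameSeven.Basic
import Cfsg.Agent.Lib.Linear.OrthRule

/-!
# A root element gives `Ω`
-/

set_option autoImplicit false

namespace Cfsg.Lib.Linear.FrameSeven

open Module Cfsg.Lib.Linear.Orth
open scoped Matrix

variable {ι : Type} [Fintype ι] [DecidableEq ι] {F : Type*} [Field F] [Finite F]
  {Q : (ι → F) → F} {B : LinearMap.BilinForm F (ι → F)}
  {n : ℕ} {e : Fin n → (ι → F)} {ν : F} {H : Subgroup (GL ι F)}

omit [Fintype ι] [DecidableEq ι] [Finite F] in
/-- Every element is a sum `a x² + c y²`. -/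
theorem exists_conic [Finite F] (h2 : (2 : F) ≠ 0) {a c : F} (ha : a ≠ 0) (hc : c ≠ 0) (d : F) :
    ∃ x y : F, a * x ^ 2 + c * y ^ 2 = d := by
  classical
  haveI := Fintype.ofFinite F
  have hodd : Fintype.card F % 2 = 1 := FiniteField.odd_card_of_char_ne_two fun h => h2 (by
    have h' := CharP.cast_eq_zero F (ringChar F)
    rw [h] at h'
    exact_mod_cast h')
  obtain ⟨x, y, hxy⟩ := FiniteField.exists_root_sum_quadratic
    (f := Polynomial.C a * Polynomial.X ^ 2) (g := Polynomial.C c * Polynomial.X ^ 2 - Polynomial.C d)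
    (Polynomial.degree_C_mul_X_pow 2 ha)
    (by rw [Polynomial.degree_sub_C (by rw [Polynomial.degree_C_mul_X_pow 2 hc]; decide),
      Polynomial.degree_C_mul_X_pow 2 hc]; rfl) hodd
  refine ⟨x, y, ?_⟩
  simp only [Polynomial.eval_sub, Polynomial.eval_mul, Polynomial.eval_C, Polynomial.eval_pow,
    Polynomial.eval_X] at hxy
  linear_combination hxy

variable (T : Ctx Q B e ν H)

include T

/-- The axes of the root elements of `H` with one centre form a subspace. -/
def Ctx.axes {u : ι → F} (hu : Q u = 0) : Submodule F (ι → F) where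
  carrier := {b | B u b = 0 ∧ sGL Q B u b ∈ H}
  add_mem' := fun {a b} ha hb => ⟨by rw [map_add, ha.1, hb.1, add_zero], by
    rw [← sGL_mul T.frame.space hu ha.1 hb.1]; exact mul_mem ha.2 hb.2⟩
  zero_mem' := ⟨map_zero _, by
    have h : sGL Q B u (0 : ι → F) = 1 := gl_ext fun x => by
      rw [sGL_act T.frame.space hu (map_zero _), T.frame.space.zero]; simp
    rw [h]; exact one_mem H⟩
  smul_mem' := fun c b hb => by
    have C := T.frame.space
    obtain ⟨m, rfl⟩ := T.prime c
    induction m with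
    | zero =>
      rw [Nat.cast_zero, zero_smul]
      refine ⟨map_zero _, ?_⟩
      have h : sGL Q B u (0 : ι → F) = 1 := gl_ext fun x => by
        rw [sGL_act C hu (map_zero _), C.zero]; simp
      rw [h]; exact one_mem H
    | succ m ih =>
      rw [Nat.cast_succ, add_smul, one_smul]
      exact ⟨by rw [map_add, ih.1, hb.1, add_zero], by
        rw [← sGL_mul C hu ih.1 hb.1]; exact mul_mem ih.2 hb.2⟩

theorem Ctx.mem_axes {u b : ι → F} (hu : Q u = 0) :
    b ∈ T.axes hu ↔ B u b = 0 ∧ sGL Q B u b ∈ H := Iff.rfl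

theorem Ctx.axes_act {u b : ι → F} (hu : Q u = 0) {g : GL ι F} (hg : g ∈ H)
    (hgu : g.val *ᵥ u = u) (hb : b ∈ T.axes hu) : g.val *ᵥ b ∈ T.axes hu := by
  have C := T.frame.space
  refine ⟨by conv_lhs => rw [← hgu]
             rw [C.B_act (T.le_iso hg)]; exact hb.1, ?_⟩
  have := mul_mem (mul_mem hg hb.2) (inv_mem hg)
  rwa [sGL_conj C hu hb.1 (T.le_iso hg), hgu] at this

/-- Every frame vector off the centre is an axis. -/
def Ctx.Good (u : ι → F) : Prop := ∀ hu : Q u = 0, ∀ k, k ∉ supp B e ν u → e k ∈ T.axes hu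

open Classical in
theorem Ctx.good_of_axis {u b : ι → F} (hu : Q u = 0) (hb : b ∈ T.axes hu)
    (h4 : (supp B e ν u).card + 3 ≤ n) {k : Fin n} (hku : k ∉ supp B e ν u)
    (hkb : co B e ν k b ≠ 0) : T.Good u := by
  have X := T.frame
  have C := X.space
  intro _
  set A := supp B e ν u with hA
  have hout : 3 ≤ (Finset.univ \ A).card := by
    rw [Finset.card_sdiff_of_subset (Finset.subset_univ _), Finset.card_univ, Fintype.card_fin]
    omega
  have pair : ∀ a c : Fin n, a ≠ c → a ∉ A → c ∉ A →
      co B e ν a b • e a + co B e ν c b • e c ∈ T.axes hu := by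
    intro a c hac ha hc
    have hg := T.axes_act hu (T.rr_frame a c) (X.ext fun l => by
      rw [mul_act, X.co_refl, X.co_refl]
      split_ifs with h1 h2 <;> simp_all [not_mem_supp, A]) hb
    have h := (T.axes hu).smul_mem (2⁻¹ : F) ((T.axes hu).sub_mem hb hg)
    convert h using 1
    refine X.ext fun l => ?_
    rw [co_add, co_smul, co_smul, co_smul, co_sub, mul_act, X.co_refl, X.co_refl, X.co_e, X.co_e]
    have := X.two
    split_ifs <;> simp_all <;> field_simp <;> ring
  obtain ⟨a, ha, c, hc, hac⟩ := Finset.one_lt_card.mp (show 1 < ((Finset.univ \ A).erase k).card by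
    have := Finset.card_erase_add_one (Finset.mem_sdiff.mpr ⟨Finset.mem_univ k, hku⟩)
    omega)
  simp only [Finset.mem_erase, Finset.mem_sdiff, Finset.mem_univ, true_and] at ha hc
  have hk : e k ∈ T.axes hu := by
    have h := (T.axes hu).smul_mem ((2 * co B e ν k b)⁻¹)
      ((T.axes hu).sub_mem ((T.axes hu).add_mem (pair k a (Ne.symm ha.1) hku ha.2)
        (pair k c (Ne.symm hc.1) hku hc.2)) (pair a c hac ha.2 hc.2))
    convert h using 1
    have := X.two
    match_scalars <;> field_simp <;> ring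
  intro l hl
  by_cases hlk : l = k
  · exact hlk ▸ hk
  obtain ⟨m, hm⟩ := Finset.card_pos.mp
    (show 0 < (((Finset.univ \ A).erase k).erase l).card by
      have h1 := Finset.card_erase_add_one (Finset.mem_sdiff.mpr ⟨Finset.mem_univ k, hku⟩)
      have h2 := Finset.card_erase_add_one (Finset.mem_erase.mpr
        ⟨hlk, Finset.mem_sdiff.mpr ⟨Finset.mem_univ l, hl⟩⟩)
      omega)
  simp only [Finset.mem_erase, Finset.mem_sdiff, Finset.mem_univ, true_and] at hm
  have h1 : ((-1 : F)) ^ 2 = 1 := by norm_num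
  have hg := T.rr_root (Ne.symm hlk) (Ne.symm hm.1) h1 h1
  have h := T.axes_act hu hg (X.ext fun q => by
    rw [mul_act, X.co_root (Ne.symm hlk) _ h1, X.co_root (Ne.symm hm.1) _ h1,
      X.co_root (Ne.symm hm.1) _ h1, X.co_root (Ne.symm hm.1) _ h1]
    split_ifs <;> simp_all [not_mem_supp, A]) hk
  convert h using 1
  refine X.ext fun q => ?_
  rw [mul_act, X.co_root (Ne.symm hlk) _ h1, X.co_root (Ne.symm hm.1) _ h1,
    X.co_root (Ne.symm hm.1) _ h1, X.co_root (Ne.symm hm.1) _ h1, X.co_e, X.co_e, X.co_e,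
    X.co_e, X.co_e]
  split_ifs <;> simp_all

/-- `u` lies in the span of the frame vectors of its support. -/
theorem Ctx.mem_of_supp {M : Submodule F (ι → F)} {w : ι → F}
    (h : ∀ l ∈ supp B e ν w, e l ∈ M) : w ∈ M := by
  rw [← T.frame.expand w]
  refine M.sum_mem fun l _ => ?_
  by_cases hl : l ∈ supp B e ν w
  · exact M.smul_mem _ (h l hl)
  · rw [not_mem_supp.mp hl, zero_smul]; exact M.zero_mem

/-- Disjoint singular centres. -/
theorem Ctx.good_move {w w' : ι → F} (hg : T.Good w) (hw : Q w = 0) (hw0 : w ≠ 0) (hw' : Q w' = 0)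
    (hd : ∀ l ∈ supp B e ν w', l ∉ supp B e ν w) (h4 : (supp B e ν w').card + 3 ≤ n) :
    T.Good w' := by
  have X := T.frame
  have C := X.space
  obtain ⟨h1, h2⟩ : w' ∈ T.axes hw := T.mem_of_supp fun l hl => hg hw l (hd l hl)
  rw [sGL_swap C hw hw' h1] at h2
  obtain ⟨k, hk⟩ : ∃ k, k ∈ supp B e ν w := by
    by_contra h
    push Not at h
    exact hw0 (X.eq_zero fun i => not_mem_supp.mp (h i))
  refine T.good_of_axis hw' (b := -w) ⟨by rw [map_neg, C.symm, h1, neg_zero], h2⟩ h4
    (fun h => hd k h hk) ?_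
  rw [co_neg, neg_ne_zero]
  exact mem_supp.mp hk

open Classical in
/-- A singular vector on three given indices. -/
theorem Ctx.exists_triple (S : Finset (Fin n)) (hS : 3 ≤ S.card) :
    ∃ w, w ≠ 0 ∧ Q w = 0 ∧ ∀ l ∈ supp B e ν w, l ∈ S := by
  have X := T.frame
  obtain ⟨w, hw, hw0, hQw⟩ := Sing.exists_singular X.space.smul X.space.polar
    (Submodule.span F (e '' (S : Set (Fin n)))) (by
      have hli : LinearIndependent F (fun i : S => e i.1) :=
        X.indep.comp _ Subtype.val_injective
      have h := finrank_span_eq_card hli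
      rw [show Set.range (fun i : S => e i.1) = e '' (S : Set (Fin n)) by
        ext x; simp] at h
      rw [h, Fintype.card_coe]
      exact hS)
  refine ⟨w, hw0, hQw, fun l hl => ?_⟩
  by_contra hlS
  have hle : Submodule.span F (e '' (S : Set (Fin n))) ≤ LinearMap.ker (B (e l)) :=
    Submodule.span_le.mpr (by
      rintro _ ⟨i, hi, rfl⟩
      exact LinearMap.mem_ker.mpr (X.orth l i (fun h => hlS (h ▸ hi))))
  have := LinearMap.mem_ker.mp (hle hw)
  rw [X.B_e] at this
  exact mem_supp.mp hl ((mul_eq_zero.mp this).resolve_left X.two_nu)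

/-- A triple carries a good singular vector. -/
def Ctx.Has (S : Finset (Fin n)) : Prop :=
  ∃ w, w ≠ 0 ∧ Q w = 0 ∧ (∀ l ∈ supp B e ν w, l ∈ S) ∧ T.Good w

theorem Ctx.good_of_has {S : Finset (Fin n)} (hS : T.Has S) {w : ι → F} (hw : Q w = 0)
    (hd : ∀ l ∈ supp B e ν w, l ∉ S) (h3 : (supp B e ν w).card + 3 ≤ n) : T.Good w := by
  obtain ⟨v, hv0, hQv, hvs, hgv⟩ := hS
  exact T.good_move hgv hQv hv0 hw (fun l hl hl' => hd l hl (hvs l hl')) h3

theorem Ctx.has_disjoint {S S' : Finset (Fin n)} (hS : T.Has S) (hd : ∀ l ∈ S', l ∉ S)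
    (hc : S'.card = 3) : T.Has S' := by
  obtain ⟨w, hw0, hQw, hws⟩ := T.exists_triple S' hc.ge
  refine ⟨w, hw0, hQw, hws, T.good_of_has hS hQw (fun l hl => hd l (hws l hl)) ?_⟩
  have := Finset.card_le_card (show supp B e ν w ⊆ S' from hws)
  have := T.frame.big
  omega

open Classical in
theorem Ctx.has_all {S : Finset (Fin n)} (hS : T.Has S) (hc : S.card = 3) :
    ∀ S' : Finset (Fin n), S'.card = 3 → T.Has S' := by
  suffices h : ∀ k, ∀ S' : Finset (Fin n), (S' \ S).card = k → S'.card = 3 → T.Has S' from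
    fun S' h' => h _ S' rfl h'
  intro k
  induction k with
  | zero =>
    intro S' h0 h'
    rwa [Finset.eq_of_subset_of_card_le
      (Finset.sdiff_eq_empty_iff_subset.mp (Finset.card_eq_zero.mp h0)) (by omega)]
  | succ k ih =>
    intro S' hk h'
    obtain ⟨b, hb⟩ := Finset.card_pos.mp (show 0 < (S' \ S).card by omega)
    obtain ⟨a, ha⟩ := Finset.card_pos.mp (show 0 < (S \ S').card by
      have h1 := Finset.card_sdiff_add_card_inter S S'
      have h2 := Finset.card_sdiff_add_card_inter S' S
      rw [Finset.inter_comm] at h2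
      omega)
    rw [Finset.mem_sdiff] at hb ha
    set S1 := insert a (S'.erase b) with hS1
    have ha' : a ∉ S'.erase b := fun h => ha.2 (Finset.mem_of_mem_erase h)
    have h1 : S1.card = 3 := by
      rw [hS1, Finset.card_insert_of_notMem ha', Finset.card_erase_of_mem hb.1]; omega
    have h2 : (S1 \ S).card = k := by
      rw [hS1, Finset.insert_sdiff_of_mem _ ha.1, Finset.erase_sdiff_comm,
        Finset.card_erase_of_mem (Finset.mem_sdiff.mpr hb)]
      omega
    obtain ⟨S2, hS2, hc2⟩ := Finset.exists_subset_card_eq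
      (s := Finset.univ \ insert a S') (n := 3) (by
        rw [Finset.card_sdiff_of_subset (Finset.subset_univ _), Finset.card_univ, Fintype.card_fin]
        have := Finset.card_insert_le a S'
        have := T.frame.big
        omega)
    have h3 : T.Has S2 := T.has_disjoint (ih S1 h2 h1) (fun l hl hl' =>
      (Finset.mem_sdiff.mp (hS2 hl)).2 (by
        rcases Finset.mem_insert.mp hl' with h | h
        · exact Finset.mem_insert.mpr (Or.inl h)
        · exact Finset.mem_insert_of_mem (Finset.mem_of_mem_erase h))) hc2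
    exact T.has_disjoint h3 (fun l hl hl' =>
      (Finset.mem_sdiff.mp (hS2 hl')).2 (Finset.mem_insert_of_mem hl)) h'

open Classical in
/-- All short singular vectors are good. -/
theorem Ctx.good_all {u : ι → F} (hu0 : u ≠ 0) (hu : Q u = 0) (hg : T.Good u)
    (h3 : (supp B e ν u).card + 3 ≤ n) {w : ι → F} (hw : Q w = 0)
    (hw3 : (supp B e ν w).card + 3 ≤ n) : T.Good w := by
  have compl : ∀ A : Finset (Fin n), A.card + 3 ≤ n → ∃ S : Finset (Fin n),
      (∀ l ∈ S, l ∉ A) ∧ S.card = 3 := fun A hA => by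
    obtain ⟨S, hS, hc⟩ := Finset.exists_subset_card_eq (s := Finset.univ \ A) (n := 3) (by
      rw [Finset.card_sdiff_of_subset (Finset.subset_univ _), Finset.card_univ, Fintype.card_fin]
      omega)
    exact ⟨S, fun l hl => (Finset.mem_sdiff.mp (hS hl)).2, hc⟩
  obtain ⟨S, hS, hc⟩ := compl _ h3
  obtain ⟨v, hv0, hQv, hvs⟩ := T.exists_triple S hc.ge
  have hhas : T.Has S := ⟨v, hv0, hQv, hvs, T.good_move hg hu hu0 hQv
    (fun l hl => hS l (hvs l hl)) (by
      have := Finset.card_le_card (show supp B e ν v ⊆ S from hvs)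
      have := T.frame.big
      omega)⟩
  obtain ⟨S', hS', hc'⟩ := compl _ hw3
  exact T.good_of_has (T.has_all hhas hc S' hc') hw (fun l hl hl' => hS' l hl' hl) hw3

open Classical in
/-- A short singular vector is a centre when all of them are good. -/
theorem Ctx.centre_of_good
    (small : ∀ w, Q w = 0 → (supp B e ν w).card + 3 ≤ n → T.Good w)
    {S : Finset (Fin n)} (hS : S.card = 3) {w : ι → F} (hw0 : w ≠ 0) (hw : Q w = 0)
    (hws : ∀ l ∈ supp B e ν w, l ∈ S) : Centre Q B H w := by
  have X := T.frame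
  have C := X.space
  have hn := X.big
  obtain ⟨s, hs⟩ : ∃ s, s ∈ supp B e ν w := by
    by_contra h
    push Not at h
    exact hw0 (X.eq_zero fun i => not_mem_supp.mp (h i))
  have hsS := hws s hs
  have hcs := mem_supp.mp hs
  have hw0' : ∀ l, l ∉ S → co B e ν l w = 0 := fun l hl =>
    not_mem_supp.mp fun h => hl (hws l h)
  have hout : ∀ l, l ∉ S → e l ∈ T.axes hw := fun l hl =>
    small w hw (by have := Finset.card_le_card (show supp B e ν w ⊆ S from hws); omega) hw l
      (fun h => hl (hws l h))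
  have hwM : w ∈ T.axes hw := by
    refine ⟨C.self_zero hw, ?_⟩
    have h : sGL Q B w ((1 : F) • w) = 1 := gl_ext fun x => by
      rw [one_smul, sGL_act C hw (C.self_zero hw), hw]; simp
    rw [one_smul] at h
    rw [h]; exact one_mem H
  obtain ⟨m, hm, o, ho, hmo⟩ := Finset.one_lt_card.mp (show 1 < (Finset.univ \ S).card by
    rw [Finset.card_sdiff_of_subset (Finset.subset_univ _), Finset.card_univ, Fintype.card_fin]
    omega)
  simp only [Finset.mem_sdiff, Finset.mem_univ, true_and] at hm ho
  obtain ⟨l, hl⟩ := Finset.card_pos.mp (show 0 < (Finset.univ \ ({m, o} ∪ S)).card by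
    rw [Finset.card_sdiff_of_subset (Finset.subset_univ _), Finset.card_univ, Fintype.card_fin]
    have := Finset.card_union_le ({m, o} : Finset (Fin n)) S
    have := Finset.card_le_two (a := m) (b := o)
    omega)
  simp only [Finset.mem_sdiff, Finset.mem_univ, true_and, Finset.mem_union, Finset.mem_insert,
    Finset.mem_singleton, not_or] at hl
  obtain ⟨⟨hlm, hlo⟩, hlS⟩ := hl
  have hx : ∀ t ∈ S, co B e ν s w • e t - co B e ν t w • e s ∈ T.axes hw := by
    intro t ht
    by_cases hts : t = s
    · rw [hts, sub_self]; exact (T.axes hw).zero_mem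
    obtain ⟨β, γ, hβγ⟩ := exists_conic X.two (one_ne_zero (α := F)) (one_ne_zero (α := F))
      (-(co B e ν s w ^ 2 + co B e ν t w ^ 2))
    set z := co B e ν s w • e t - co B e ν t w • e s + (β • e m + γ • e o) with hz
    have hzc : ∀ q, co B e ν q z = if q = t then co B e ν s w else if q = s then -co B e ν t w
        else if q = m then β else if q = o then γ else 0 := fun q => by
      rw [hz, co_add, co_add, co_sub, co_smul, co_smul, co_smul, co_smul, X.co_e, X.co_e, X.co_e,
        X.co_e]
      split_ifs <;> simp_all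
    have hzs : supp B e ν z ⊆ {t, s, m, o} := fun q hq => by
      rw [mem_supp, hzc] at hq
      simp only [Finset.mem_insert, Finset.mem_singleton]
      split_ifs at hq <;> simp_all
    have hzQ : Q z = 0 := by
      rw [X.Q_co, ← X.sum_supp, Finset.sum_subset hzs fun q _ hq => by
        rw [not_mem_supp.mp hq]; ring]
      have htm : t ≠ m := fun h => hm (h ▸ ht)
      have hto : t ≠ o := fun h => ho (h ▸ ht)
      have hsm : s ≠ m := fun h => hm (h ▸ hsS)
      have hso : s ≠ o := fun h => ho (h ▸ hsS)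
      rw [Finset.sum_insert (by simp [hts, htm, hto]), Finset.sum_insert (by simp [hsm, hso]),
        Finset.sum_pair hmo, hzc, hzc, hzc, hzc, if_pos rfl, if_neg (Ne.symm hts), if_pos rfl,
        if_neg htm.symm, if_neg hsm.symm, if_pos rfl, if_neg hto.symm, if_neg hso.symm,
        if_neg hmo.symm, if_pos rfl]
      linear_combination ν * hβγ
    have hlt : l ≠ t := fun h => hlS (h ▸ ht)
    have hls : l ≠ s := fun h => hlS (h ▸ hsS)
    have hlz : co B e ν l z = 0 := by
      rw [hzc, if_neg hlt, if_neg hls, if_neg hlm, if_neg hlo]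
    obtain ⟨hzl, hzH⟩ := small z hzQ (by
      have := Finset.card_le_card hzs
      have := Finset.card_le_four (a := t) (b := s) (c := m) (d := o)
      omega) hzQ l (not_mem_supp.mpr hlz)
    have hwz : B w z = 0 := by
      rw [hz, map_add, map_add, map_sub, map_smul, map_smul, map_smul, map_smul, C.symm w (e t),
        C.symm w (e s), C.symm w (e m), C.symm w (e o), X.B_e, X.B_e, X.B_e, X.B_e, hw0' m hm,
        hw0' o ho, smul_eq_mul, smul_eq_mul, smul_eq_mul, smul_eq_mul]
      ring
    have hlw : B (e l) w = 0 := by rw [X.B_e, hw0' l hlS, mul_zero]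
    have hlz' : B (e l) z = 0 := by rw [X.B_e, hlz, mul_zero]
    have h1 := T.axes_act hw hzH (by
      rw [sGL_act C hzQ hzl, C.symm z w, hwz, hlw]; simp) (hout l hlS)
    rw [sGL_act C hzQ hzl, C.symm z (e l), hlz', X.self, X.norm] at h1
    have h2 := (T.axes hw).sub_mem
      ((T.axes hw).smul_mem ((2 * ν)⁻¹) ((T.axes hw).sub_mem (hout l hlS) h1))
      ((T.axes hw).add_mem ((T.axes hw).smul_mem β (hout m hm))
        ((T.axes hw).smul_mem γ (hout o ho)))
    convert h2 using 1
    rw [hz]
    have := X.two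
    have := X.nu
    match_scalars <;> field_simp <;> ring
  intro b hb
  suffices h : b ∈ T.axes hw from h.2
  have hsum : ∑ t ∈ S, co B e ν t b * co B e ν t w = 0 := by
    have h : B w b = 2 * ν * ∑ t ∈ S, co B e ν t b * co B e ν t w := by
      rw [X.B_co]
      congr 1
      refine (Finset.sum_subset (Finset.subset_univ S) fun q _ hq => ?_).symm.trans
        (Finset.sum_congr rfl fun q _ => mul_comm _ _)
      rw [hw0' q hq, zero_mul]
    rw [h] at hb
    exact (mul_eq_zero.mp hb).resolve_left X.two_nu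
  have hb' : ∑ t ∈ S, (co B e ν t b / co B e ν s w) •
      (co B e ν s w • e t - co B e ν t w • e s) = ∑ t ∈ S, co B e ν t b • e t := by
    simp only [smul_sub, smul_smul, Finset.sum_sub_distrib, ← Finset.sum_smul,
      div_mul_cancel₀ _ hcs]
    rw [sub_eq_self, Finset.sum_congr rfl fun t _ => div_mul_eq_mul_div _ _ _, ← Finset.sum_div,
      hsum, zero_div, zero_smul]
  rw [← X.expand b, ← Finset.sum_sdiff (Finset.subset_univ S), ← hb']
  exact (T.axes hw).add_mem ((T.axes hw).sum_mem fun i hi => (T.axes hw).smul_mem _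
    (hout i (Finset.mem_sdiff.mp hi).2))
    ((T.axes hw).sum_mem fun t ht => (T.axes hw).smul_mem _ (hx t ht))

open Classical in
/-- A root element whose axis leaves the support of a centre of size at most `n - 3` gives `Ω`. -/
theorem Ctx.omega_of_root {u b : ι → F} (hu0 : u ≠ 0) (hu : Q u = 0) (hub : B u b = 0)
    (hH : sGL Q B u b ∈ H) (h3 : (supp B e ν u).card + 3 ≤ n) {k : Fin n}
    (hku : k ∉ supp B e ν u) (hkb : co B e ν k b ≠ 0) : Cfsg.Geo.omegaGL Q ≤ H := by
  have X := T.frame
  have C := X.space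
  have hn := X.big
  have hgu := T.good_of_axis hu (b := b) ⟨hub, hH⟩ h3 hku hkb
  have small : ∀ w, Q w = 0 → (supp B e ν w).card + 3 ≤ n → T.Good w :=
    fun w hw hw3 => T.good_all hu0 hu hgu h3 hw hw3
  obtain ⟨S, -, hS⟩ := Finset.exists_subset_card_eq (s := (Finset.univ : Finset (Fin n))) (n := 3)
    (by rw [Finset.card_univ, Fintype.card_fin]; omega)
  obtain ⟨w, hw0, hQw, hws⟩ := T.exists_triple S hS.ge
  obtain ⟨a, ha⟩ : ∃ a, a ∈ supp B e ν w := by
    by_contra h
    push Not at h
    exact hw0 (X.eq_zero fun i => not_mem_supp.mp (h i))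
  set f := (rGL Q (e a)).val *ᵥ w with hf
  have hQf : Q f = 0 := by rw [hf, X.Q_refl, hQw]
  have hfs : ∀ l ∈ supp B e ν f, l ∈ S := fun l hl => hws l (by
    rw [mem_supp, hf, X.co_refl] at hl
    rw [mem_supp]
    split_ifs at hl <;> simpa using hl)
  have hwf : B w f ≠ 0 := by
    rw [hf, rGL_act C (X.Qne a), map_sub, map_smul, C.self, hQw, C.symm w (e a), X.B_e, X.norm,
      mul_zero, zero_sub, smul_eq_mul, neg_ne_zero]
    have := mem_supp.mp ha
    exact mul_ne_zero (mul_ne_zero (inv_ne_zero X.nu) (mul_ne_zero X.two_nu this))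
      (mul_ne_zero X.two_nu this)
  have hf0 : f ≠ 0 := fun h => hwf (by rw [h, map_zero])
  exact omega_le_of_two C X.five T.le_iso hQw hQf hwf
    (T.centre_of_good small hS hw0 hQw hws) (T.centre_of_good small hS hf0 hQf hfs)

end Cfsg.Lib.Linear.FrameSeven
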