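import Cfsg.Agent.Lib.Linear.FrameSeven.Root
import Cfsg.Agent.Lib.Linear.FrameSeven.Poles
import Cfsg.Agent.Lib.Linear.OrthSplit

/-!
# Rotation groups of a non-degenerate three-space
-/

set_option autoImplicit false

namespace Cfsg.Lib.Linear.FrameSeven

open Module Cfsg.Lib.Linear.Orth
open scoped Matrix

variable {ι : Type} [Fintype ι] [DecidableEq ι] {F : Type*} [Field F]
  {Q : (ι → F) → F} {B : LinearMap.BilinForm F (ι → F)}

/-- Three orthogonal non-singular vectors. -/
structure Tri (Q : (ι → F) → F) (B : LinearMap.BilinForm F (ι → F)) (b : Fin 3 → (ι → F)) :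
    Prop where
  space : Space Q B
  two : (2 : F) ≠ 0
  ne : ∀ i, Q (b i) ≠ 0
  orth : ∀ i j, i ≠ j → B (b i) (b j) = 0

variable {b : Fin 3 → (ι → F)}

/-- The space of the triple. -/
abbrev tspan (b : Fin 3 → (ι → F)) : Submodule F (ι → F) := Submodule.span F (Set.range b)

variable (D : Tri Q B b)

include D

theorem Tri.self_ne (i : Fin 3) : B (b i) (b i) ≠ 0 := by
  rw [D.space.self]; exact mul_ne_zero D.two (D.ne i)

theorem Tri.indep : LinearIndependent F b := by
  rw [Fintype.linearIndependent_iff]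
  intro c hc i
  have h := congrArg (B (b i)) hc
  rw [map_sum, Finset.sum_eq_single i (fun j _ hj => by rw [map_smul, D.orth i j (Ne.symm hj), smul_zero])
    (fun h => absurd (Finset.mem_univ i) h), map_smul, map_zero, smul_eq_mul] at h
  exact (mul_eq_zero.mp h).resolve_right (D.self_ne i)

theorem Tri.dim : finrank F (tspan b) = 3 := by
  rw [finrank_span_eq_card D.indep, Fintype.card_fin]

theorem Tri.eq_zero {y : ι → F} (hy : y ∈ tspan b) (h : ∀ i, B (b i) y = 0) : y = 0 := by
  obtain ⟨c, rfl⟩ := (Submodule.mem_span_range_iff_exists_fun F).mp hy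
  refine Finset.sum_eq_zero fun i _ => ?_
  have hi := h i
  rw [map_sum, Finset.sum_eq_single i (fun j _ hj => by rw [map_smul, D.orth i j (Ne.symm hj), smul_zero])
    (fun h => absurd (Finset.mem_univ i) h), map_smul, smul_eq_mul] at hi
  rw [(mul_eq_zero.mp hi).resolve_right (D.self_ne i), zero_smul]

theorem Tri.nd : NDeg B (tspan b) := fun x hx h =>
  D.eq_zero hx fun i => by rw [D.space.symm]; exact h _ (Submodule.subset_span ⟨i, rfl⟩)

/-- The projection onto the triple. -/
noncomputable def Tri.proj (_D : Tri Q B b) : (ι → F) →ₗ[F] (ι → F) :=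
  ∑ i, ((B (b i) (b i))⁻¹ • B (b i)).smulRight (b i)

theorem Tri.proj_apply (y : ι → F) :
    D.proj y = ∑ i, ((B (b i) (b i))⁻¹ * B (b i) y) • b i := by
  simp [Tri.proj]

theorem Tri.proj_mem (y : ι → F) : D.proj y ∈ tspan b := by
  rw [D.proj_apply]
  exact Submodule.sum_mem _ fun i _ => Submodule.smul_mem _ _ (Submodule.subset_span ⟨i, rfl⟩)

theorem Tri.proj_perp (y : ι → F) : ∀ z ∈ tspan b, B z (y - D.proj y) = 0 := by
  intro z hz
  have key : ∀ i, B (b i) (y - D.proj y) = 0 := fun i => by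
    rw [map_sub, D.proj_apply, map_sum, Finset.sum_eq_single i
      (fun j _ hj => by rw [map_smul, D.orth i j (Ne.symm hj), smul_zero])
      (fun h => absurd (Finset.mem_univ i) h), map_smul, smul_eq_mul]
    have := D.self_ne i
    field_simp
    ring
  obtain ⟨c, rfl⟩ := (Submodule.mem_span_range_iff_exists_fun F).mp hz
  simp [key]

theorem Tri.proj_self {y : ι → F} (hy : y ∈ tspan b) : D.proj y = y :=
  (sub_eq_zero.mp (D.eq_zero (Submodule.sub_mem _ hy (D.proj_mem y))
    fun i => D.proj_perp y _ (Submodule.subset_span ⟨i, rfl⟩))).symm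

omit D

/-- A rotation of the triple. -/
structure IsRot (Q : (ι → F) → F) (B : LinearMap.BilinForm F (ι → F)) (b : Fin 3 → (ι → F))
    (g : GL ι F) : Prop where
  iso : g ∈ isometryGroup F Q
  det : g.val.det = 1
  fix : ∀ y, (∀ i, B (b i) y = 0) → g.val *ᵥ y = y

variable {g : GL ι F}

include D

theorem IsRot.mul {h : GL ι F} (hg : IsRot Q B b g) (hh : IsRot Q B b h) : IsRot Q B b (g * h) where
  iso := mul_mem hg.iso hh.iso
  det := by rw [Units.val_mul, Matrix.det_mul, hg.det, hh.det, one_mul]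
  fix y hy := by rw [mul_act, hh.fix y hy, hg.fix y hy]

theorem Tri.rot_one : IsRot Q B b 1 := ⟨one_mem _, by simp, fun y _ => by simp⟩

theorem IsRot.inv (hg : IsRot Q B b g) : IsRot Q B b g⁻¹ where
  iso := inv_mem hg.iso
  det := by
    have h := congrArg Matrix.det (congrArg Units.val (mul_inv_cancel g))
    rwa [Units.val_mul, Matrix.det_mul, hg.det, one_mul, Units.val_one, Matrix.det_one] at h
  fix y hy := by conv_lhs => rw [← hg.fix y hy, inv_act]

theorem Tri.rr_rot {u v : ι → F} (hu : u ∈ tspan b) (hv : v ∈ tspan b) (hQu : Q u ≠ 0)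
    (hQv : Q v ≠ 0) : IsRot Q B b (rGL Q u * rGL Q v) where
  iso := mul_mem (rGL_mem D.space hQu) (rGL_mem D.space hQv)
  det := by rw [Units.val_mul, Matrix.det_mul, rGL_det D.space hQu, rGL_det D.space hQv]; ring
  fix y hy := by
    have h : ∀ z ∈ tspan b, B z y = 0 := fun z hz => by
      obtain ⟨c, rfl⟩ := (Submodule.mem_span_range_iff_exists_fun F).mp hz
      simp [hy]
    rw [mul_act, rGL_fix D.space hQv (h v hv), rGL_fix D.space hQu (h u hu)]

theorem IsRot.fix_perp (hg : IsRot Q B b g) {y : ι → F} (hy : ∀ z ∈ tspan b, B z y = 0) :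
    g.val *ᵥ y = y :=
  hg.fix y fun i => hy _ (Submodule.subset_span ⟨i, rfl⟩)

theorem IsRot.mem (hg : IsRot Q B b g) {y : ι → F} (hy : y ∈ tspan b) : g.val *ᵥ y ∈ tspan b := by
  have h : g.val *ᵥ y - D.proj (g.val *ᵥ y) = 0 := by
    refine D.space.nondeg' fun u => ?_
    set r := g.val *ᵥ y - D.proj (g.val *ᵥ y) with hr
    have hperp := D.proj_perp (g.val *ᵥ y)
    have h1 : B r (D.proj u) = 0 := by rw [D.space.symm]; exact hperp _ (D.proj_mem u)
    have h2 : B r (u - D.proj u) = 0 := by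
      rw [hr, map_sub B, LinearMap.sub_apply, D.proj_perp u _ (D.proj_mem _), sub_zero]
      conv_lhs => rw [← hg.fix_perp D (D.proj_perp u)]
      rw [D.space.B_act hg.iso]
      exact D.proj_perp u y hy
    rw [show u = D.proj u + (u - D.proj u) by abel, map_add, h1, h2, add_zero]
  rw [sub_eq_zero.mp h]
  exact D.proj_mem _

theorem IsRot.sub_mem' (hg : IsRot Q B b g) (y : ι → F) : g.val *ᵥ y - y ∈ tspan b := by
  have e : g.val *ᵥ y - y = g.val *ᵥ D.proj y - D.proj y := by
    have := hg.fix_perp D (D.proj_perp y)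
    rw [Matrix.mulVec_sub] at this
    linear_combination (norm := module) this
  rw [e]
  exact Submodule.sub_mem _ (hg.mem D (D.proj_mem y)) (D.proj_mem y)

/-- A rotation fixing two orthogonal non-singular vectors is trivial. -/
theorem IsRot.eq_one (hg : IsRot Q B b g) {v w : ι → F} (hv : v ∈ tspan b) (hw : w ∈ tspan b)
    (hQv : Q v ≠ 0) (hQw : Q w ≠ 0) (hvw : B v w = 0) (hgv : g.val *ᵥ v = v)
    (hgw : g.val *ᵥ w = w) : g = 1 := by
  classical
  have C := D.space
  set A := Submodule.span F (({v, w} : Finset (ι → F)) : Set (ι → F))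
  obtain ⟨z, hz, hz0⟩ := Submodule.exists_mem_ne_zero_of_ne_bot (p := perpIn B (tspan b) A) fun h => by
    have h1 := finrank_perpIn (B := B) (tspan b) A
    have h2 : finrank F A ≤ 2 := (finrank_span_finset_le_card _).trans Finset.card_le_two
    rw [h, finrank_bot, D.dim] at h1
    omega
  have hzv : B v z = 0 := hz.2 v (Submodule.subset_span (by simp))
  have hzw : B w z = 0 := hz.2 w (Submodule.subset_span (by simp))
  have hn : ∀ {u : ι → F}, Q u ≠ 0 → B u u ≠ 0 := fun h => by
    rw [C.self]; exact mul_ne_zero D.two h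
  have hspan : ∀ y ∈ tspan b, ∃ c d f : F, y = c • v + d • w + f • z := by
    intro y hy
    have hli : LinearIndependent F ![v, w, z] := by
      rw [Fintype.linearIndependent_iff]
      intro c hc
      simp only [Fin.sum_univ_three, Matrix.cons_val_zero, Matrix.cons_val_one, Matrix.cons_val] at hc
      have h0 := congrArg (B v) hc
      have h1 := congrArg (B w) hc
      simp only [map_add, map_smul, map_zero, hzv, hzw, hvw, C.symm w v, smul_eq_mul, mul_zero,
        add_zero, zero_add] at h0 h1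
      have e0 : c 0 = 0 := (mul_eq_zero.mp h0).resolve_right (hn hQv)
      have e1 : c 1 = 0 := (mul_eq_zero.mp h1).resolve_right (hn hQw)
      rw [e0, e1, zero_smul, zero_smul, zero_add, zero_add] at hc
      have e2 : c 2 = 0 := (smul_eq_zero.mp hc).resolve_right hz0
      intro i
      fin_cases i <;> assumption
    have hle : Submodule.span F (Set.range ![v, w, z]) ≤ tspan b :=
      Submodule.span_le.mpr (by rintro _ ⟨i, rfl⟩; fin_cases i; exacts [hv, hw, hz.1])
    rw [← Submodule.eq_of_le_of_finrank_eq hle (by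
      rw [finrank_span_eq_card hli, Fintype.card_fin, D.dim])] at hy
    obtain ⟨c, hc⟩ := (Submodule.mem_span_range_iff_exists_fun F).mp hy
    exact ⟨c 0, c 1, c 2, by rw [← hc, Fin.sum_univ_three]; simp⟩
  have hQz : Q z ≠ 0 := fun h => hz0 (D.nd z hz.1 fun y hy => by
    obtain ⟨c, d, f, rfl⟩ := hspan y hy
    simp [C.symm z v, hzv, C.symm z w, hzw, C.self_zero h])
  obtain ⟨c, d, μ, hgz⟩ := hspan _ (hg.mem D hz.1)
  have hc : c = 0 := by
    have h := C.B_act hg.iso v z
    rw [hgv, hgz, hzv] at h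
    simpa [hvw, hzv, hn hQv] using h
  have hd : d = 0 := by
    have h := C.B_act hg.iso w z
    rw [hgw, hgz, hzw] at h
    simpa [C.symm w v, hvw, hzw, hn hQw] using h
  rw [hc, hd, zero_smul, zero_smul, zero_add, zero_add] at hgz
  have hμ : μ ^ 2 = 1 := by
    have h := mem_iso.mp hg.iso z
    rw [hgz, C.smul] at h
    exact mul_right_cancel₀ hQz (h.trans (one_mul _).symm)
  have act : ∀ y, g.val *ᵥ y = y + ((B z y / B z z) * (μ - 1)) • z := by
    intro y
    obtain ⟨c', d', f', he⟩ := hspan _ (D.proj_mem y)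
    have hp := hg.fix_perp D (D.proj_perp y)
    have hBz : B z y = f' * B z z := by
      have := D.proj_perp y z hz.1
      rw [map_sub, sub_eq_zero, he] at this
      simpa [C.symm z v, hzv, C.symm z w, hzw] using this
    have hh : g.val *ᵥ D.proj y = D.proj y + (f' * (μ - 1)) • z := by
      rw [he, Matrix.mulVec_add, Matrix.mulVec_add, Matrix.mulVec_smul, Matrix.mulVec_smul,
        Matrix.mulVec_smul, hgv, hgw, hgz]
      module
    rw [Matrix.mulVec_sub, hh] at hp
    rw [hBz, mul_div_cancel_right₀ _ (hn hQz)]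
    linear_combination (norm := module) hp
  rcases sq_eq_one_iff.mp hμ with rfl | rfl
  · exact gl_ext fun y => by rw [act]; simp
  · exfalso
    have e : g = rGL Q z := gl_ext fun y => by
      rw [act, rGL_act C hQz, C.self]
      have := D.two
      match_scalars
      · ring
      · rw [div_eq_mul_inv, mul_inv]
        linear_combination (-(B z y * (Q z)⁻¹)) * (inv_mul_cancel₀ this)
    have h1 := hg.det
    rw [e, rGL_det C hQz] at h1
    exact D.two (by linear_combination -h1)

/-- A rotation fixes a vector of the triple. -/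
theorem IsRot.exists_fixed (hg : IsRot Q B b g) :
    ∃ v ∈ tspan b, v ≠ 0 ∧ g.val *ᵥ v = v := by
  have C := D.space
  let P : (ι → F) →ₗ[F] (ι → F) := LinearMap.id - D.proj
  have hP : ∀ y, P y = y - D.proj y := fun y => rfl
  let K : (ι → F) →ₗ[F] (ι → F) := Matrix.toLin' g.val - LinearMap.id + P
  have hK : ∀ y, K y = g.val *ᵥ y - y + (y - D.proj y) := fun y => by
    simp [K, hP, Matrix.toLin'_apply]
  set τ : GL ι F := rGL Q (b 0) * rGL Q (b 1) * rGL Q (b 2) with hτ
  have hτfix : ∀ y, (∀ i, B (b i) y = 0) → τ.val *ᵥ y = y := fun y hy => by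
    rw [hτ, mul_act, mul_act, rGL_fix C (D.ne 2) (hy 2), rGL_fix C (D.ne 1) (hy 1),
      rGL_fix C (D.ne 0) (hy 0)]
  have hτneg : ∀ i, τ.val *ᵥ b i = -b i := fun i => by
    rw [hτ, mul_act, mul_act]
    have o : ∀ i j, i ≠ j → (rGL Q (b i)).val *ᵥ b j = b j := fun i j h =>
      rGL_fix C (D.ne i) (D.orth i j h)
    obtain rfl | rfl | rfl : i = 0 ∨ i = 1 ∨ i = 2 := by omega
    · rw [o 2 0 (by decide), o 1 0 (by decide), rGL_self C (D.ne 0)]
    · rw [o 2 1 (by decide), rGL_self C (D.ne 1), Matrix.mulVec_neg, o 0 1 (by decide)]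
    · rw [rGL_self C (D.ne 2), Matrix.mulVec_neg, o 1 2 (by decide), Matrix.mulVec_neg,
        o 0 2 (by decide)]
  have hτact : ∀ y, τ.val *ᵥ y = (y - D.proj y) - D.proj y := fun y => by
    have h1 : τ.val *ᵥ D.proj y = -D.proj y := by
      rw [D.proj_apply, Matrix.mulVec_sum, ← Finset.sum_neg_distrib]
      exact Finset.sum_congr rfl fun i _ => by rw [Matrix.mulVec_smul, hτneg, smul_neg]
    have h2 := hτfix _ fun i => D.proj_perp y _ (Submodule.subset_span ⟨i, rfl⟩)
    rw [Matrix.mulVec_sub, h1] at h2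
    linear_combination (norm := module) h2
  let L : (ι → F) →ₗ[F] (ι → F) :=
    Matrix.toLin' (g⁻¹ : GL ι F).val ∘ₗ K ∘ₗ Matrix.toLin' τ.val
  have hproj : ∀ y, D.proj (y - D.proj y) = 0 := fun y => by
    rw [map_sub, D.proj_self (D.proj_mem y), sub_self]
  have hL : ∀ y, L y = (g⁻¹ : GL ι F).val *ᵥ y - y + (y - D.proj y) := fun y => by
    have hfix := hg.fix_perp D (D.proj_perp y)
    have hfix' : (g⁻¹ : GL ι F).val *ᵥ (y - D.proj y) = y - D.proj y :=
      (hg.inv D).fix_perp D (D.proj_perp y)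
    simp only [L, LinearMap.comp_apply, Matrix.toLin'_apply]
    rw [hτact, hK, map_sub D.proj, hproj, zero_sub, sub_neg_eq_add, D.proj_self (D.proj_mem y),
      Matrix.mulVec_sub g.val, hfix]
    simp only [Matrix.mulVec_add, Matrix.mulVec_sub, inv_act] at hfix' ⊢
    module
  have hadj : B.comp K LinearMap.id = B.comp LinearMap.id L := by
    refine LinearMap.BilinForm.ext fun x y => ?_
    simp only [LinearMap.BilinForm.comp_apply, LinearMap.id_coe, id_eq]
    rw [hK, hL]
    simp only [map_add, map_sub, LinearMap.add_apply, LinearMap.sub_apply]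
    rw [C.B_act_left hg.iso]
    have h1 := D.proj_perp y (D.proj x) (D.proj_mem x)
    have h2 := D.proj_perp x (D.proj y) (D.proj_mem y)
    rw [map_sub] at h1 h2
    rw [C.symm (D.proj y) x, C.symm (D.proj y) (D.proj x)] at h2
    linear_combination h2 - h1
  have hnd : B.Nondegenerate := ⟨fun v hv => C.nondeg' hv, fun v hv => C.nondeg v hv⟩
  have hG : (LinearMap.BilinForm.toMatrix' B).det ≠ 0 :=
    Matrix.nondegenerate_iff_det_ne_zero.mp (LinearMap.BilinForm.Nondegenerate.toMatrix' hnd)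
  have hdet := congrArg (fun M => (LinearMap.BilinForm.toMatrix' M).det) hadj
  simp only [LinearMap.BilinForm.toMatrix'_comp, Matrix.det_mul, Matrix.det_transpose,
    LinearMap.toMatrix'_id, Matrix.det_one, one_mul, mul_one] at hdet
  have hLd : (LinearMap.toMatrix' L).det = -(LinearMap.toMatrix' K).det := by
    simp only [L, LinearMap.toMatrix'_comp, LinearMap.toMatrix'_toLin', Matrix.det_mul]
    rw [(hg.inv D).det, hτ, Units.val_mul, Units.val_mul, Matrix.det_mul, Matrix.det_mul,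
      rGL_det C (D.ne 0), rGL_det C (D.ne 1), rGL_det C (D.ne 2)]
    ring
  rw [hLd] at hdet
  have hK0 : (LinearMap.toMatrix' K).det = 0 := by
    have : (2 : F) * ((LinearMap.toMatrix' K).det * (LinearMap.BilinForm.toMatrix' B).det) = 0 := by
      linear_combination hdet
    exact (mul_eq_zero.mp ((mul_eq_zero.mp this).resolve_left D.two)).resolve_right hG
  obtain ⟨v, hv0, hv⟩ := Matrix.exists_mulVec_eq_zero_iff.mpr hK0
  rw [LinearMap.toMatrix'_mulVec, hK] at hv
  have hp : v - D.proj v = 0 := by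
    refine D.space.nondeg' fun u => ?_
    have hs := hg.sub_mem' D v
    have e : v - D.proj v = -(g.val *ᵥ v - v) := eq_neg_of_add_eq_zero_right hv
    rw [show u = D.proj u + (u - D.proj u) by abel, map_add]
    have h1 : B (v - D.proj v) (D.proj u) = 0 := by
      rw [C.symm]; exact D.proj_perp v _ (D.proj_mem u)
    have h2 : B (v - D.proj v) (u - D.proj u) = 0 :=
      D.proj_perp u _ (e ▸ Submodule.neg_mem _ hs)
    rw [h1, h2, add_zero]
  rw [hp, add_zero, sub_eq_zero] at hv
  exact ⟨v, sub_eq_zero.mp hp ▸ D.proj_mem v, hv0, hv⟩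

/-- Rotations of order prime to the characteristic fix exactly one non-singular line. -/
theorem IsRot.axis (hg : IsRot Q B b g) {m : ℕ} (hm : (m : F) ≠ 0) (hgm : g ^ m = 1) (hg1 : g ≠ 1) :
    ∃ v ∈ tspan b, Q v ≠ 0 ∧ g.val *ᵥ v = v ∧
      ∀ u ∈ tspan b, g.val *ᵥ u = u → u ∈ Submodule.span F {v} := by
  have C := D.space
  have hpow : ∀ l : ℕ, IsRot Q B b (g ^ l) := fun l => by
    induction l with
    | zero => rw [pow_zero]; exact D.rot_one
    | succ l ih => rw [pow_succ]; exact ih.mul D hg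
  have avg : ∀ f y, f ∈ tspan b → g.val *ᵥ f = f → y ∈ tspan b →
      ∃ z ∈ tspan b, g.val *ᵥ z = z ∧ B f z = B f y := by
    intro f y hf hgf hy
    have hmem : ∀ l : ℕ, (g ^ l).val *ᵥ y ∈ tspan b := fun l => (hpow l).mem D hy
    have hfl : ∀ l : ℕ, B f ((g ^ l).val *ᵥ y) = B f y := by
      intro l
      induction l with
      | zero => simp
      | succ l ih =>
        rw [pow_succ', mul_act]
        conv_lhs => rw [← hgf]
        rw [C.B_act hg.iso, ih]
    refine ⟨(m : F)⁻¹ • ∑ l ∈ Finset.range m, (g ^ l).val *ᵥ y,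
      Submodule.smul_mem _ _ (Submodule.sum_mem _ fun l _ => hmem l), ?_, ?_⟩
    · rw [Matrix.mulVec_smul, Matrix.mulVec_sum]
      congr 1
      simp only [← mul_act, ← pow_succ']
      have h1 := Finset.sum_range_succ' (fun l => (g ^ l).val *ᵥ y) m
      rw [Finset.sum_range_succ, hgm, pow_zero] at h1
      exact (add_right_cancel h1).symm
    · rw [map_smul, map_sum, Finset.sum_congr rfl fun l _ => hfl l, Finset.sum_const,
        Finset.card_range, nsmul_eq_mul, smul_eq_mul, ← mul_assoc, inv_mul_cancel₀ hm, one_mul]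
  have grow : ∀ u, u ∈ tspan b → u ≠ 0 → g.val *ᵥ u = u → ∀ v, (v = 0 ∨ Q v ≠ 0) → v ∈ tspan b →
      g.val *ᵥ v = v → B v u = 0 →
      ∃ z ∈ tspan b, Q z ≠ 0 ∧ g.val *ᵥ z = z ∧ B v z = 0 := by
    intro u hu hu0 hgu v hv0 hv hgv hvu
    by_cases hQu : Q u = 0
    · obtain ⟨y, hy, huy⟩ : ∃ y ∈ tspan b, B u y ≠ 0 := by
        by_contra h
        push Not at h
        exact hu0 (D.nd u hu h)
      obtain ⟨z, hz, hgz, hfz⟩ := avg u y hu hgu hy
      obtain ⟨z', hz', hgz', hvz', huz'⟩ : ∃ z' ∈ tspan b, g.val *ᵥ z' = z' ∧ B v z' = 0 ∧ B u z' ≠ 0 := by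
        rcases hv0 with rfl | hQv
        · exact ⟨z, hz, hgz, by simp, hfz ▸ huy⟩
        · refine ⟨z - (B v z / B v v) • v, Submodule.sub_mem _ hz (Submodule.smul_mem _ _ hv),
            by rw [Matrix.mulVec_sub, Matrix.mulVec_smul, hgz, hgv], ?_, ?_⟩
          · rw [map_sub, map_smul, smul_eq_mul, div_mul_cancel₀ _ (by
              rw [C.self]; exact mul_ne_zero D.two hQv), sub_self]
          · rw [map_sub, map_smul, C.symm u v, hvu, smul_zero, sub_zero, hfz]
            exact huy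
      by_cases hQz' : Q z' = 0
      · exact ⟨u + z', Submodule.add_mem _ hu hz', by rw [C.add, hQu, hQz']; simpa using huz',
          by rw [Matrix.mulVec_add, hgu, hgz'], by rw [map_add, hvu, hvz', add_zero]⟩
      · exact ⟨z', hz', hQz', hgz', hvz'⟩
    · exact ⟨u, hu, hQu, hgu, hvu⟩
  obtain ⟨u, hu, hu0, hgu⟩ := hg.exists_fixed D
  obtain ⟨v, hv, hQv, hgv, -⟩ := grow u hu hu0 hgu 0 (Or.inl rfl) (Submodule.zero_mem _)
    (by simp) (by simp)
  refine ⟨v, hv, hQv, hgv, fun u hu hgu => ?_⟩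
  by_contra hns
  have hBv : B v v ≠ 0 := by rw [C.self]; exact mul_ne_zero D.two hQv
  set u' := u - (B v u / B v v) • v with hu'
  have hu'0 : u' ≠ 0 := fun h => hns (Submodule.mem_span_singleton.mpr ⟨B v u / B v v,
    (sub_eq_zero.mp h).symm⟩)
  obtain ⟨w, hw, hQw, hgw, hvw⟩ := grow u' (Submodule.sub_mem _ hu (Submodule.smul_mem _ _ hv)) hu'0
    (by rw [hu', Matrix.mulVec_sub, Matrix.mulVec_smul, hgu, hgv]) v (Or.inr hQv) hv hgv
    (by rw [hu', map_sub, map_smul, smul_eq_mul, div_mul_cancel₀ _ hBv, sub_self])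
  exact hg1 (hg.eq_one D hv hw hQv hQw hvw hgv hgw)

open Classical in
/-- Orders in a finite rotation group without a common axis. -/
theorem Tri.orders [Finite F] {G : Subgroup (GL ι F)} (hG : ∀ g ∈ G, IsRot Q B b g)
    (hp : ∀ g ∈ G, (orderOf g : F) ≠ 0)
    (hline : ∀ v ∈ tspan b, Q v ≠ 0 → ∃ g ∈ G, g.val *ᵥ v ∉ Submodule.span F {v}) :
    (∀ a ∈ G, a ^ 3 = 1 ∨ a ^ 4 = 1 ∨ a ^ 5 = 1) ∧
      ((∃ c ∈ G, c ^ 4 = 1 ∧ c ^ 2 ≠ 1) → ∀ a ∈ G, a ^ 3 = 1 ∨ a ^ 4 = 1) := by
  let P : Type _ := {v : Submodule F (ι → F) // ∃ g ∈ G, g ≠ 1 ∧ ∃ u ∈ tspan b, Q u ≠ 0 ∧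
    g.val *ᵥ u = u ∧ v = Submodule.span F {u}}
  have hmove : ∀ (a : G) (L : P), ∃ g ∈ G, g ≠ 1 ∧ ∃ u ∈ tspan b, Q u ≠ 0 ∧ g.val *ᵥ u = u ∧
      L.1.map (Matrix.toLin' (a : GL ι F).val) = Submodule.span F {u} := by
    rintro ⟨a, ha⟩ ⟨L, g, hg, hg1, u, hu, hQu, hgu, rfl⟩
    refine ⟨a * g * a⁻¹, mul_mem (mul_mem ha hg) (inv_mem ha), fun h => hg1 ?_,
      a.val *ᵥ u, (hG a ha).mem D hu, by rw [mem_iso.mp (hG a ha).iso]; exact hQu, ?_, ?_⟩
    · rw [← conj_eq_one_iff]; exact h
    · rw [mul_act, mul_act, inv_act, hgu]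
    · rw [Submodule.map_span, Set.image_singleton, Matrix.toLin'_apply]
  letI : MulAction G P :=
    { smul := fun a L => ⟨L.1.map (Matrix.toLin' (a : GL ι F).val), hmove a L⟩
      one_smul := fun L => Subtype.ext (by
        show L.1.map (Matrix.toLin' ((1 : G) : GL ι F).val) = L.1
        rw [OneMemClass.coe_one, Units.val_one, Matrix.toLin'_one, Submodule.map_id])
      mul_smul := fun a a' L => Subtype.ext (by
        show L.1.map (Matrix.toLin' ((a * a' : G) : GL ι F).val) =
          (L.1.map (Matrix.toLin' (a' : GL ι F).val)).map (Matrix.toLin' (a : GL ι F).val)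
        rw [Subgroup.coe_mul, Units.val_mul, Matrix.toLin'_mul, Submodule.map_comp]) }
  have hsmul : ∀ (a : G) (L : P), (a • L : P).1 = L.1.map (Matrix.toLin' (a : GL ι F).val) :=
    fun _ _ => rfl
  let S : P → Subgroup G := fun L =>
    { carrier := {a | ∀ y ∈ L.1, (a : GL ι F).val *ᵥ y = y}
      mul_mem' := fun {a a'} ha ha' y hy => by
        rw [Subgroup.coe_mul, mul_act, ha' y hy, ha y hy]
      one_mem' := fun y _ => by simp
      inv_mem' := fun {a} ha y hy => by
        conv_lhs => rw [← ha y hy]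
        exact inv_act _ _ }
  have hord : ∀ a : G, a ≠ 1 → ∃ v ∈ tspan b, Q v ≠ 0 ∧ (a : GL ι F).val *ᵥ v = v ∧
      ∀ u ∈ tspan b, (a : GL ι F).val *ᵥ u = u → u ∈ Submodule.span F {v} := fun a ha =>
    (hG _ a.2).axis D (hp _ a.2) (pow_orderOf_eq_one _) fun h => ha (Subtype.ext h)
  have mem_line : ∀ {u y : ι → F}, y ∈ Submodule.span F {u} → ∀ {a : GL ι F}, a.val *ᵥ u = u →
      a.val *ᵥ y = y := fun {u y} hy {a} ha => by
    obtain ⟨c, rfl⟩ := Submodule.mem_span_singleton.mp hy
    rw [Matrix.mulVec_smul, ha]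
  have key := poles_orders (G := G) (P := P) S ?_ ?_ ?_ ?_ ?_ ?_ ?_
  · obtain ⟨k1, k2⟩ := key
    refine ⟨fun a ha => ?_, fun ⟨c, hc, hc4, hc2⟩ a ha => ?_⟩
    · exact (k1 ⟨a, ha⟩).imp (congrArg Subtype.val ·) (Or.imp (congrArg Subtype.val ·)
        (congrArg Subtype.val ·))
    · exact (k2 ⟨⟨c, hc⟩, Subtype.ext hc4, fun h => hc2 (congrArg Subtype.val h)⟩ ⟨a, ha⟩).imp
        (congrArg Subtype.val ·) (congrArg Subtype.val ·)
  · intro L a ha
    refine Subtype.ext ?_
    rw [hsmul]
    obtain ⟨g, hg, hg1, u, hu, hQu, hgu, hL⟩ := L.2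
    rw [hL, Submodule.map_span, Set.image_singleton, Matrix.toLin'_apply,
      ha u (hL ▸ Submodule.mem_span_singleton_self u)]
  · intro L a a' hfa hfa' haS ha'S
    obtain ⟨g, hg, hg1, u, hu, hQu, hgu, hL⟩ := L.2
    have flip : ∀ c : G, c • L = L → c ∉ S L → (c : GL ι F).val *ᵥ u = -u := by
      intro c hc hcS
      have h := congrArg Subtype.val hc
      rw [hsmul, hL, Submodule.map_span, Set.image_singleton, Matrix.toLin'_apply] at h
      obtain ⟨μ, hμ⟩ := Submodule.mem_span_singleton.mp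
        (show (c : GL ι F).val *ᵥ u ∈ Submodule.span F {u} by
          rw [← h]; exact Submodule.mem_span_singleton_self _)
      have hQ := mem_iso.mp (hG _ c.2).iso u
      rw [← hμ, D.space.smul] at hQ
      rcases sq_eq_one_iff.mp (mul_right_cancel₀ hQu (hQ.trans (one_mul _).symm)) with e | e
      · exact absurd (fun y hy => mem_line (u := u) (hL ▸ hy) (by rw [← hμ, e, one_smul])) hcS
      · rw [← hμ, e, neg_one_smul]
    intro y hy
    refine mem_line (u := u) (hL ▸ hy) ?_
    have e1 := flip a hfa haS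
    have e2 := flip a' hfa' ha'S
    rw [Subgroup.coe_mul, mul_act, e2, ← e1]
    exact inv_act _ _
  · intro a L c hc y hy
    rw [hsmul] at hy
    obtain ⟨z, hz, rfl⟩ := hy
    rw [Matrix.toLin'_apply, Subgroup.coe_mul, Subgroup.coe_mul, mul_act, mul_act,
      Subgroup.coe_inv, inv_act, hc z hz]
  · intro L
    obtain ⟨g, hg, hg1, u, hu, hQu, hgu, hL⟩ := L.2
    exact ⟨⟨g, hg⟩, fun y hy => mem_line (u := u) (hL ▸ hy) hgu,
      fun h => hg1 (congrArg Subtype.val h)⟩
  · intro a ha
    obtain ⟨v, hv, hQv, hav, -⟩ := hord a ha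
    exact ⟨⟨_, a.1, a.2, fun h => ha (Subtype.ext h), v, hv, hQv, hav, rfl⟩,
      fun y hy => mem_line hy hav⟩
  · intro a ha L L' hL hL'
    obtain ⟨v, hv, hQv, hav, huv⟩ := hord a ha
    have eqv : ∀ M : P, a ∈ S M → M.1 = Submodule.span F {v} := by
      intro M hM
      obtain ⟨g, hg, hg1, u, hu, hQu, hgu, hMu⟩ := M.2
      obtain ⟨c, hc⟩ := Submodule.mem_span_singleton.mp
        (huv u hu (hM u (hMu ▸ Submodule.mem_span_singleton_self u)))
      rw [hMu, ← hc, Submodule.span_singleton_smul_eq (Ne.isUnit fun h0 => hQu (by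
        rw [← hc, h0, zero_smul, D.space.zero]))]
    exact Subtype.ext ((eqv L hL).trans (eqv L' hL').symm)
  · intro L
    obtain ⟨g, hg, hg1, u, hu, hQu, hgu, hL⟩ := L.2
    obtain ⟨a, ha, hau⟩ := hline u hu hQu
    refine ⟨⟨a, ha⟩, fun h => hau ?_⟩
    have h' := congrArg Subtype.val h
    rw [hsmul, hL, Submodule.map_span, Set.image_singleton, Matrix.toLin'_apply] at h'
    rw [← h']
    exact Submodule.mem_span_singleton_self _

end Cfsg.Lib.Linear.FrameSeven
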